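import Cfsg.Agent.Lib.ShortPres.Word

/-!
# Groups with a torus, a small unipotent group and one reflection: the group-theoretic side

An orbit subgroup is the subgroup generated over `N` by finitely many conjugates of an element. A cell is an
element `x` with `w x w` in `U T w U`.
-/

set_option autoImplicit false

namespace Cfsg.Agent.ShortPres.SU3

variable {P : Type*} [Group P]

/-- `a` carries `M` into itself. -/
def Stab (M : Subgroup P) (a : P) : Prop := ∀ x ∈ M, a * x * a⁻¹ ∈ M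

theorem Stab.pow {M : Subgroup P} {a : P} (h : Stab M a) : ∀ n : ℕ, Stab M (a ^ n)
  | 0 => fun x hx => by simpa using hx
  | n + 1 => fun x hx => by
    have := h _ (Stab.pow h n x hx)
    convert this using 1
    rw [pow_succ']
    group

theorem Stab.of_mem_zpowers {M : Subgroup P} {a : P} (h : Stab M a) {n : ℕ} (hn : 0 < n)
    (ha : a ^ n = 1) {b : P} (hb : b ∈ Subgroup.zpowers a) : Stab M b := by
  have hfo : IsOfFinOrder a := isOfFinOrder_iff_pow_eq_one.2 ⟨n, hn, ha⟩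
  obtain ⟨k, rfl⟩ := hfo.mem_powers_iff_mem_zpowers.2 hb
  exact h.pow k

/-- The subgroup generated over `N` by the first `d` conjugates. -/
def orb (N : Subgroup P) (a u : P) (d : ℕ) : Subgroup P :=
  Subgroup.closure ((N : Set P) ∪ {x | ∃ i < d, x = a ^ i * u * (a ^ i)⁻¹})

variable {N : Subgroup P} {a u : P} {d : ℕ}

theorem le_orb : N ≤ orb N a u d := fun _ hx => Subgroup.subset_closure (Or.inl hx)

theorem conj_mem_orb {i : ℕ} (hi : i < d) : a ^ i * u * (a ^ i)⁻¹ ∈ orb N a u d :=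
  Subgroup.subset_closure (Or.inr ⟨i, hi, rfl⟩)

theorem mem_orb_self (hd : 0 < d) : u ∈ orb N a u d := by
  simpa using conj_mem_orb (N := N) (a := a) (u := u) hd

theorem orb_le {M : Subgroup P} (hN : N ≤ M) (hu : ∀ i < d, a ^ i * u * (a ^ i)⁻¹ ∈ M) :
    orb N a u d ≤ M :=
  (Subgroup.closure_le _).2 fun x hx => hx.elim (fun h => hN h) fun ⟨i, hi, e⟩ => e ▸ hu i hi

theorem orb_zero : orb N a u 0 = N :=
  le_antisymm (orb_le le_rfl fun i hi => absurd hi (Nat.not_lt_zero i)) le_orb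

theorem map_orb' {Q : Type*} [Group Q] (f : P →* Q) :
    (orb N a u d).map f = orb (N.map f) (f a) (f u) d := by
  rw [orb, MonoidHom.map_closure, orb, Set.image_union, Subgroup.coe_map]
  congr 2
  ext y
  constructor
  · rintro ⟨_, ⟨i, hi, rfl⟩, rfl⟩
    exact ⟨i, hi, by simp⟩
  · rintro ⟨i, hi, rfl⟩
    exact ⟨_, ⟨i, hi, rfl⟩, by simp⟩

/-- A relation on the last conjugate closes the orbit subgroup. -/
theorem stab_orb {b : P} (hN : Stab N b) (hu : ∀ i < d, b * (a ^ i * u * (a ^ i)⁻¹) * b⁻¹ ∈ orb N a u d) :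
    Stab (orb N a u d) b := by
  intro x hx
  have : orb N a u d ≤ (orb N a u d).comap (MulAut.conj b).toMonoidHom :=
    orb_le (fun y hy => by simpa using le_orb (hN y hy)) (fun i hi => by simpa using hu i hi)
  simpa using this hx

theorem stab_orb_self (hN : Stab N a) (hlast : a ^ d * u * (a ^ d)⁻¹ ∈ orb N a u d) :
    Stab (orb N a u d) a := by
  refine stab_orb hN fun i hi => ?_
  have e : a * (a ^ i * u * (a ^ i)⁻¹) * a⁻¹ = a ^ (i + 1) * u * (a ^ (i + 1))⁻¹ := by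
    rw [pow_succ']; group
  rw [e]
  rcases Nat.lt_or_ge (i + 1) d with h | h
  · exact conj_mem_orb h
  · rwa [show i + 1 = d by omega]

/-- An element commuting with the shift which moves `u` into the orbit subgroup stabilises it. -/
theorem stab_orb_comm {b : P} (hN : Stab N b) (hab : Commute a b) (hS : Stab (orb N a u d) a)
    (h1 : b * u * b⁻¹ ∈ orb N a u d) : Stab (orb N a u d) b := by
  refine stab_orb hN fun i _ => ?_
  have := hS.pow i _ h1
  convert this using 1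
  have hc := (hab.pow_left i).eq
  have hc' : (a ^ i)⁻¹ * b⁻¹ = b⁻¹ * (a ^ i)⁻¹ := (hab.pow_left i).inv_inv.eq
  calc b * (a ^ i * u * (a ^ i)⁻¹) * b⁻¹
      = (b * a ^ i) * u * ((a ^ i)⁻¹ * b⁻¹) := by group
    _ = (a ^ i * b) * u * (b⁻¹ * (a ^ i)⁻¹) := by rw [hc, hc']
    _ = _ := by group

/-- Adjoining one normalising element with a power inside. -/
theorem card_adjoin_le {M : Subgroup P} [Finite M] {v : P} {p : ℕ} (hp : 0 < p) (hv : Stab M v)
    (hvp : v ^ p ∈ M) :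
    ((Subgroup.closure ((M : Set P) ∪ {v}) : Subgroup P) : Set P) ⊆
      Set.range fun x : M × Fin p => (x.1 : P) * v ^ (x.2 : ℕ) := by
  have red : ∀ x ∈ M, ∀ k : ℕ, x * v ^ k ∈ Set.range fun x : M × Fin p => (x.1 : P) * v ^ (x.2 : ℕ) := by
    intro x hx k
    refine ⟨⟨⟨x * (v ^ p) ^ (k / p), mul_mem hx (pow_mem hvp _)⟩, ⟨k % p, Nat.mod_lt _ hp⟩⟩, ?_⟩
    show x * (v ^ p) ^ (k / p) * v ^ (k % p) = _
    rw [mul_assoc, ← pow_mul, ← pow_add, Nat.div_add_mod]
  intro y hy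
  induction hy using Subgroup.closure_induction with
  | mem y hy =>
    rcases hy with hy | hy
    · simpa using red y hy 0
    · rw [Set.mem_singleton_iff.1 hy]; simpa using red 1 (one_mem M) 1
  | one => simpa using red 1 (one_mem M) 0
  | mul a b _ _ ha hb =>
    obtain ⟨⟨⟨x, hx⟩, k⟩, rfl⟩ := ha
    obtain ⟨⟨⟨y, hy⟩, l⟩, rfl⟩ := hb
    have := red (x * (v ^ (k : ℕ) * y * (v ^ (k : ℕ))⁻¹)) (mul_mem hx (hv.pow _ y hy)) ((k : ℕ) + (l : ℕ))
    convert this using 1
    show x * v ^ (k : ℕ) * (y * v ^ (l : ℕ)) = _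
    rw [pow_add]; group
  | inv a _ ha =>
    obtain ⟨⟨⟨x, hx⟩, k⟩, rfl⟩ := ha
    set m := (p - 1) * (k : ℕ)
    have e : (v ^ (k : ℕ))⁻¹ = ((v ^ p) ^ (k : ℕ))⁻¹ * v ^ m := by
      rw [eq_inv_mul_iff_mul_eq, mul_inv_eq_iff_eq_mul, ← pow_mul, ← pow_add]
      congr 1
      show p * (k : ℕ) = (p - 1) * (k : ℕ) + (k : ℕ)
      rw [← Nat.succ_mul, Nat.succ_eq_add_one, Nat.sub_add_cancel hp]
    have := red (((v ^ p) ^ (k : ℕ))⁻¹ * (v ^ m * x⁻¹ * (v ^ m)⁻¹))
      (mul_mem (inv_mem (pow_mem hvp _)) (hv.pow m _ (inv_mem hx))) m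
    convert this using 1
    show (x * v ^ (k : ℕ))⁻¹ = _
    rw [mul_inv_rev, e]
    group

/-- The orbit subgroup is small when the conjugates commute modulo `N`. -/
theorem card_orb_le [Finite N] {p : ℕ} (hp : 0 < p) (hNa : Stab N a) {n : ℕ} (hn : 0 < n) (han : a ^ n = 1)
    (hNu : Stab N u) (hup : u ^ p ∈ N)
    (hcomm : ∀ i, i < d → u * (a ^ i * u * (a ^ i)⁻¹) * u⁻¹ * (a ^ i * u * (a ^ i)⁻¹)⁻¹ ∈ N) :
    Finite (orb N a u d) ∧ Nat.card (orb N a u d) ≤ Nat.card N * p ^ d := by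
  induction d with
  | zero => rw [orb_zero]; simpa using ‹Finite N›
  | succ d ih =>
    obtain ⟨hfin, hcard⟩ := ih fun i hi => hcomm i (by omega)
    set M := orb N a u d
    set v := a ^ d * u * (a ^ d)⁻¹ with hv
    have hainv : Stab N (a ^ d)⁻¹ :=
      hNa.of_mem_zpowers hn han (inv_mem (pow_mem (Subgroup.mem_zpowers a) d))
    have hNv : Stab N v := fun x hx => by
      have := hNa.pow d _ (hNu _ (hainv x hx))
      convert this using 1
      rw [hv]; group
    have hvs : Stab M v := stab_orb hNv fun i hi => by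
      have h1 := hNa.pow i _ (hcomm (d - i) (by omega))
      have h2 := inv_mem h1
      have : v * (a ^ i * u * (a ^ i)⁻¹) * v⁻¹ =
          (a ^ i * (u * (a ^ (d - i) * u * (a ^ (d - i))⁻¹) * u⁻¹ *
            (a ^ (d - i) * u * (a ^ (d - i))⁻¹)⁻¹) * (a ^ i)⁻¹)⁻¹ * (a ^ i * u * (a ^ i)⁻¹) := by
        rw [hv, show d = i + (d - i) by omega, pow_add, Nat.add_sub_cancel_left]
        group
      rw [this]
      exact mul_mem (le_orb h2) (conj_mem_orb hi)
    have hvp : v ^ p ∈ M := le_orb (by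
      rw [hv, conj_pow]
      exact hNa.pow d _ hup)
    have hle : (orb N a u (d + 1) : Set P) ⊆ Set.range fun x : M × Fin p => (x.1 : P) * v ^ (x.2 : ℕ) := by
      refine subset_trans ?_ (card_adjoin_le hp hvs hvp)
      refine orb_le (fun x hx => Subgroup.subset_closure (Or.inl (le_orb hx))) fun i hi => ?_
      rcases Nat.lt_or_ge i d with h | h
      · exact Subgroup.subset_closure (Or.inl (conj_mem_orb h))
      · rw [show i = d by omega]
        exact Subgroup.subset_closure (Or.inr rfl)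
    have hfr : (Set.range fun x : M × Fin p => (x.1 : P) * v ^ (x.2 : ℕ)).Finite := Set.finite_range _
    refine ⟨(hfr.subset hle).to_subtype, ?_⟩
    calc Nat.card (orb N a u (d + 1)) ≤ Nat.card (Set.range fun x : M × Fin p => (x.1 : P) * v ^ (x.2 : ℕ)) :=
          Nat.card_mono hfr hle
      _ ≤ Nat.card (M × Fin p) := Finite.card_range_le _
      _ ≤ Nat.card N * p ^ d * p := by rw [Nat.card_prod, Nat.card_fin]; exact Nat.mul_le_mul_right _ hcard
      _ = _ := by rw [pow_succ, mul_assoc]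

/-- The commutation trick modulo a normalised subgroup. -/
theorem commute_orbit_mod {N : Subgroup P} {u a b : P} (hu : u ∈ Subgroup.normalizer (N : Set P))
    (ha : a ∈ Subgroup.normalizer (N : Set P)) (hb : b ∈ Subgroup.normalizer (N : Set P))
    (hab : Commute a b) (h1 : u * (a * u * a⁻¹) * u⁻¹ * (a * u * a⁻¹)⁻¹ ∈ N)
    (h3 : b * u * b⁻¹ * (u * (a * u * a⁻¹))⁻¹ ∈ N) (n : ℕ) :
    u * (a ^ n * u * (a ^ n)⁻¹) * u⁻¹ * (a ^ n * u * (a ^ n)⁻¹)⁻¹ ∈ N := by
  set Q := Subgroup.normalizer (N : Set P)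
  let N' : Subgroup Q := N.subgroupOf Q
  have : N'.Normal := Subgroup.normal_in_normalizer
  let π : Q →* Q ⧸ N' := QuotientGroup.mk' N'
  have key : ∀ x y : Q, (x : P) * (y : P)⁻¹ ∈ N → π x = π y := fun x y h => by
    rw [← mul_inv_eq_one, ← map_inv, ← map_mul]
    exact (QuotientGroup.eq_one_iff _).2 h
  set u' : Q := ⟨u, hu⟩
  set a' : Q := ⟨a, ha⟩
  set b' : Q := ⟨b, hb⟩
  have hc : Commute (π a') (π b') := (show Commute a' b' from Subtype.ext hab.eq).map π
  have e1 : Commute (π u') (π a' * π u' * (π a')⁻¹) := by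
    have := key (u' * (a' * u' * a'⁻¹)) ((a' * u' * a'⁻¹) * u') (by
      show u * (a * u * a⁻¹) * (a * u * a⁻¹ * u)⁻¹ ∈ N
      convert h1 using 1
      group)
    simpa [commute_iff_eq] using this
  have e3 : π b' * π u' * (π b')⁻¹ = π u' * (π a' * π u' * (π a')⁻¹) := by
    have := key (b' * u' * b'⁻¹) (u' * (a' * u' * a'⁻¹)) (by simpa using h3)
    simpa using this
  have := commute_orbit hc e1 e3 n
  have h2 : π (u' * (a' ^ n * u' * (a' ^ n)⁻¹) * u'⁻¹ * (a' ^ n * u' * (a' ^ n)⁻¹)⁻¹) = 1 := by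
    simp only [map_mul, map_inv, map_pow]
    rw [this.eq]
    group
  exact (QuotientGroup.eq_one_iff (N := N') _).1 h2

/-- The double coset condition on `x`. -/
def Cell (U T : Subgroup P) (w x : P) : Prop :=
  ∃ v ∈ U, ∃ h ∈ T, ∃ x' ∈ U, w * x * w = v * h * w * x'

section Cell

variable {U T : Subgroup P} {w : P}
  (hUT : ∀ h ∈ T, Stab U h) (hw : w * w = 1) (hwT : Stab T w)

include hUT hw hwT

theorem Cell.conj {x h : P} (hx : Cell U T w x) (hh : h ∈ T) : Cell U T w (h * x * h⁻¹) := by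
  obtain ⟨v, hv, k, hk, x', hx', e⟩ := hx
  have hwi : w⁻¹ = w := inv_eq_of_mul_eq_one_left hw
  set h2 := w * h * w⁻¹ with hh2
  have hh2T : h2 ∈ T := hwT h hh
  refine ⟨h2 * v * h2⁻¹, hUT _ hh2T v hv, h2 * k * h⁻¹, mul_mem (mul_mem hh2T hk) (inv_mem hh),
    h2 * x' * h2⁻¹, hUT _ hh2T x' hx', ?_⟩
  calc w * (h * x * h⁻¹) * w = h2 * (w * x * w) * h2⁻¹ := by
        rw [hh2, mul_inv_rev, mul_inv_rev, inv_inv, hwi,
          show w * h * w * (w * x * w) * (w * (h⁻¹ * w)) = w * h * (w * w) * x * (w * w) * h⁻¹ * w by group, hw]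
        group
    _ = h2 * (v * k * w * x') * h2⁻¹ := by rw [e]
    _ = h2 * v * h2⁻¹ * (h2 * k * h⁻¹) * w * (h2 * x' * h2⁻¹) := by
        have e2 : h⁻¹ * w * h2 = w := by
          rw [hh2, hwi, show h⁻¹ * w * (w * h * w) = h⁻¹ * (w * w) * h * w by group, hw]
          group
        calc h2 * (v * k * w * x') * h2⁻¹ = h2 * v * k * w * x' * h2⁻¹ := by group
          _ = h2 * v * k * (h⁻¹ * w * h2) * x' * h2⁻¹ := by rw [e2]
          _ = _ := by group

omit hUT in
theorem Cell.inv {x : P} (hx : Cell U T w x) : Cell U T w x⁻¹ := by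
  obtain ⟨v, hv, k, hk, x', hx', e⟩ := hx
  have hwi : w⁻¹ = w := inv_eq_of_mul_eq_one_left hw
  refine ⟨x'⁻¹, inv_mem hx', w * k⁻¹ * w⁻¹, hwT _ (inv_mem hk), v⁻¹, inv_mem hv, ?_⟩
  calc w * x⁻¹ * w = (w⁻¹ * x * w⁻¹)⁻¹ := by group
    _ = (w * x * w)⁻¹ := by rw [hwi]
    _ = (v * k * w * x')⁻¹ := by rw [e]
    _ = x'⁻¹ * w⁻¹ * k⁻¹ * v⁻¹ := by group
    _ = x'⁻¹ * w * k⁻¹ * v⁻¹ := by rw [hwi]
    _ = x'⁻¹ * (w * k⁻¹ * w⁻¹) * w * v⁻¹ := by group

theorem Cell.mul {x z v1 h1 x' v2 h2 z' : P} (hv1 : v1 ∈ U) (hh1 : h1 ∈ T) (ex : w * x * w = v1 * h1 * w * x')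
    (hh2 : h2 ∈ T) (hz' : z' ∈ U) (ez : w * z * w = v2 * h2 * w * z') (hy : Cell U T w (x' * v2)) :
    Cell U T w (x * z) := by
  obtain ⟨v3, hv3, h3, hh3, x3, hx3, e⟩ := hy
  have hwi : w⁻¹ = w := inv_eq_of_mul_eq_one_left hw
  set k := w * h2 * w⁻¹ with hk
  have hkT : k ∈ T := hwT h2 hh2
  refine ⟨v1 * (h1 * v3 * h1⁻¹), mul_mem hv1 (hUT _ hh1 _ hv3), h1 * h3 * h2,
    mul_mem (mul_mem hh1 hh3) hh2, k⁻¹ * x3 * k⁻¹⁻¹ * z', mul_mem (hUT _ (inv_mem hkT) _ hx3) hz', ?_⟩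
  have e2 : w * k = h2 * w := by
    rw [hk, hwi, ← mul_assoc, ← mul_assoc, hw, one_mul]
  calc w * (x * z) * w = (w * x) * (w * w) * (z * w) := by rw [hw]; group
    _ = (w * x * w) * (w * z * w) := by group
    _ = v1 * h1 * w * (x' * v2) * (h2 * w) * z' := by rw [ex, ez]; group
    _ = v1 * h1 * (w * (x' * v2) * w) * k * z' := by rw [← e2]; group
    _ = v1 * h1 * (v3 * h3 * w * x3) * k * z' := by rw [e]
    _ = v1 * (h1 * v3 * h1⁻¹) * h1 * h3 * (w * k) * k⁻¹ * x3 * k * z' := by group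
    _ = v1 * (h1 * v3 * h1⁻¹) * h1 * h3 * (h2 * w) * k⁻¹ * x3 * k * z' := by rw [e2]
    _ = _ := by group

/-- If every nontrivial element of `U` is a cell, the group is `U T ∪ U T w U`. -/
theorem card_le [Finite U] [Finite T] {S : Set P} (hgen : Subgroup.closure S = ⊤)
    (hS : S ⊆ (U : Set P) ∪ T ∪ {w}) (hcell : ∀ x ∈ U, x ≠ 1 → Cell U T w x) :
    Finite P ∧ Nat.card P ≤ Nat.card U * Nat.card T * (1 + Nat.card U) := by
  have hwi : w⁻¹ = w := inv_eq_of_mul_eq_one_left hw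
  let f : (U × T) ⊕ (U × T × U) → P :=
    Sum.elim (fun x => (x.1 : P) * x.2) (fun x => (x.1 : P) * x.2.1 * w * x.2.2)
  have inl : ∀ v ∈ U, ∀ h ∈ T, v * h ∈ Set.range f := fun v hv h hh =>
    ⟨Sum.inl (⟨v, hv⟩, ⟨h, hh⟩), rfl⟩
  have inr : ∀ v ∈ U, ∀ h ∈ T, ∀ x ∈ U, v * h * w * x ∈ Set.range f := fun v hv h hh x hx =>
    ⟨Sum.inr (⟨v, hv⟩, ⟨h, hh⟩, ⟨x, hx⟩), rfl⟩
  have stepU : ∀ g ∈ Set.range f, ∀ y ∈ U, g * y ∈ Set.range f := by
    rintro _ ⟨⟨⟨v, hv⟩, ⟨h, hh⟩⟩ | ⟨⟨v, hv⟩, ⟨h, hh⟩, ⟨x, hx⟩⟩, rfl⟩ y hy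
    · have := inl _ (mul_mem hv (hUT h hh y hy)) h hh
      convert this using 1
      show v * h * y = _
      group
    · have := inr v hv h hh _ (mul_mem hx hy)
      convert this using 1
      show v * h * w * x * y = _
      group
  have stepT : ∀ g ∈ Set.range f, ∀ y ∈ T, g * y ∈ Set.range f := by
    rintro _ ⟨⟨⟨v, hv⟩, ⟨h, hh⟩⟩ | ⟨⟨v, hv⟩, ⟨h, hh⟩, ⟨x, hx⟩⟩, rfl⟩ y hy
    · have := inl v hv _ (mul_mem hh hy)
      convert this using 1
      show v * h * y = _
      group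
    · have := inr v hv _ (mul_mem hh (hwT y hy)) _ (hUT _ (inv_mem hy) x hx)
      convert this using 1
      show v * h * w * x * y = _
      group
  have stepw : ∀ g ∈ Set.range f, g * w ∈ Set.range f := by
    rintro _ ⟨⟨⟨v, hv⟩, ⟨h, hh⟩⟩ | ⟨⟨v, hv⟩, ⟨h, hh⟩, ⟨x, hx⟩⟩, rfl⟩
    · have := inr v hv h hh 1 (one_mem U)
      convert this using 1
      show v * h * w = _
      group
    · by_cases hx1 : x = 1
      · have := inl v hv h hh
        convert this using 1
        show v * h * w * x * w = _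
        rw [hx1, mul_one, mul_assoc, hw, mul_one]
      · obtain ⟨v', hv', h', hh', x', hx', e⟩ := hcell x hx hx1
        have := inr _ (mul_mem hv (hUT h hh v' hv')) _ (mul_mem hh hh') x' hx'
        convert this using 1
        show v * h * w * x * w = _
        rw [show v * h * w * x * w = v * h * (w * x * w) by group, e]
        group
  have hall : ∀ g : P, g ∈ Set.range f := by
    intro g
    have hg : g ∈ Subgroup.closure S := hgen ▸ Subgroup.mem_top g
    induction hg using Subgroup.closure_induction_right with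
    | one => simpa using inl 1 (one_mem U) 1 (one_mem T)
    | mul_right x _ y hy hxm =>
      rcases hS hy with (h | h) | h
      · exact stepU x hxm y h
      · exact stepT x hxm y h
      · rw [Set.mem_singleton_iff.1 h]; exact stepw x hxm
    | mul_inv_cancel x _ y hy hxm =>
      rcases hS hy with (h | h) | h
      · exact stepU x hxm _ (inv_mem h)
      · exact stepT x hxm _ (inv_mem h)
      · rw [Set.mem_singleton_iff.1 h, hwi]; exact stepw x hxm
  have hfin : Finite P := Finite.of_surjective f hall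
  refine ⟨hfin, (Nat.card_le_card_of_surjective f hall).trans_eq ?_⟩
  rw [Nat.card_sum, Nat.card_prod, Nat.card_prod, Nat.card_prod]
  ring

end Cell

open scoped _root_.Classical in
/-- A relator equating `x` with a member of `S` having the same image, when there is one. -/
noncomputable def relOf {α G : Type*} [Group G] (φ : FreeGroup α →* G) (S : Set (FreeGroup α))
    (x : FreeGroup α) : FreeGroup α :=
  if h : ∃ r ∈ S, φ r = φ x then x * (Classical.choose h)⁻¹ else 1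

theorem map_relOf {α G : Type*} [Group G] (φ : FreeGroup α →* G) (S : Set (FreeGroup α)) (x : FreeGroup α) :
    φ (relOf φ S x) = 1 := by
  rw [relOf]
  split_ifs with h
  · rw [map_mul, map_inv, (Classical.choose_spec h).2, mul_inv_cancel]
  · exact map_one φ

theorem mem_of_relOf {α G H : Type*} [Group G] [Group H] (φ : FreeGroup α →* G) (π : FreeGroup α →* H)
    {S : Set (FreeGroup α)} {x : FreeGroup α} (hrel : π (relOf φ S x) = 1) (hx : φ x ∈ φ '' S) :
    π x ∈ π '' S := by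
  obtain ⟨r, hr, e⟩ := hx
  have h : ∃ r ∈ S, φ r = φ x := ⟨r, hr, e⟩
  rw [relOf, dif_pos h, map_mul, map_inv, mul_inv_eq_one] at hrel
  exact ⟨_, (Classical.choose_spec h).1, hrel.symm⟩

end Cfsg.Agent.ShortPres.SU3
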