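import Cfsg.Agent.Lib.ShortPres.Param
import Cfsg.Agent.Lib.Classical.UnitaryTwo

/-!
# The field elements used by the short presentation of `SU₃(q)`

`k = g² / g^q` is the scalar by which the torus generator acts on `U/Z`.
-/

set_option autoImplicit false
set_option linter.unusedSectionVars false

namespace Cfsg.Agent.ShortPres.SU3

open Cfsg.Agent.Classical Cfsg.Agent.Classical.Unitary Cfsg.Agent.Forms
open scoped Pointwise

universe u

variable {F : Type u} [Field F] [Fintype F] {p f q : ℕ} [Fact p.Prime] [CharP F p]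
  (hF : Fintype.card F = q ^ 2) (hq : q = p ^ f) (g : Fˣ) (hg : ∀ x : Fˣ, x ∈ Subgroup.zpowers g)
  (h4 : 3 ≤ q)

/-- The scalar of the torus generator on `U/Z`. -/
abbrev kU (q : ℕ) (g : Fˣ) : Fˣ := g ^ 2 / g ^ q

theorem closure_span {V : Type*} [AddCommGroup V] [Module (ZMod p) V] {S : Set V} {x : V}
    (h : x ∈ Submodule.span (ZMod p) S) : x ∈ AddSubgroup.closure S := by
  have : Submodule.span (ZMod p) S ≤ AddSubgroup.toZModSubmodule p (AddSubgroup.closure S) :=
    Submodule.span_le.2 AddSubgroup.subset_closure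
  exact this h

include hF

omit [CharP F p] in
theorem orderOf_g (hg : ∀ x : Fˣ, x ∈ Subgroup.zpowers g) : orderOf g = q ^ 2 - 1 := by
  rw [orderOf_eq_card_of_forall_mem_zpowers hg, Nat.card_units, Nat.card_eq_fintype_card, hF]

include hq

theorem finrank_eq [Algebra (ZMod p) F] : Module.finrank (ZMod p) F = 2 * f := by
  have := Module.card_eq_pow_finrank (K := ZMod p) (V := F)
  rw [ZMod.card, hF, hq, ← pow_mul] at this
  rw [mul_comm]
  exact (Nat.pow_right_injective (Fact.out : p.Prime).two_le this).symm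

/-- An element of no proper subfield spans by its powers. -/
theorem closure_pow_eq_top {e : F} (h : ∀ r, 0 < r → r ≤ f → e ^ p ^ r ≠ e) :
    AddSubgroup.closure {x : F | ∃ i < 2 * f, x = e ^ i} = ⊤ := by
  let _ : Algebra (ZMod p) F := ZMod.algebra F p
  have hr := finrank_eq hF hq
  obtain ⟨B, hB⟩ := exists_basis (p := p) (e := e) fun r hr0 hr1 => h r hr0 (by omega)
  refine eq_top_iff.2 fun x _ => closure_span (p := p) ?_
  refine Submodule.span_mono ?_ (B.mem_span x)
  rintro _ ⟨i, rfl⟩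
  exact ⟨i, hr ▸ i.2, hB i⟩

include hg h4

/-- The fixed field is spanned by powers of `g^(q+1)`. -/
theorem fixed_mem_closure {x : F} (hx : x ^ q = x) :
    x ∈ AddSubgroup.closure {y : F | ∃ i < f, y = (g : F) ^ ((q + 1) * i)} := by
  have hf0 : f ≠ 0 := fun h => by rw [h, pow_zero] at hq; omega
  set E := fixField hF
  let _ : CharP E p := inferInstance
  let _ : Algebra (ZMod p) E := ZMod.algebra E p
  have hr : Module.finrank (ZMod p) E = f := by
    have := Module.natCard_eq_pow_finrank (K := ZMod p) (V := E)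
    rw [natCard_fixField hF, Nat.card_eq_fintype_card, ZMod.card, hq] at this
    exact (Nat.pow_right_injective (Fact.out : p.Prime).two_le this).symm
  have hνmem : (g : F) ^ (q + 1) ∈ E := by
    rw [mem_fixField, ← pow_mul, ← Units.val_pow_eq_pow_val, ← Units.val_pow_eq_pow_val]
    congr 1
    refine pow_eq_pow_iff_modEq.2 ?_
    rw [orderOf_g hF g hg]
    refine (Nat.modEq_iff_dvd' ?_).2 ⟨1, ?_⟩ |>.symm
    · exact Nat.le_mul_of_pos_right _ (by omega)
    · rw [← Nat.mul_sub_one, mul_one, ← one_pow 2, Nat.sq_sub_sq, one_pow]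
  set ν : E := ⟨(g : F) ^ (q + 1), hνmem⟩
  obtain ⟨B, hB⟩ := exists_basis (p := p) (e := ν) fun r hr0 hr1 h => by
    rw [hr] at hr1
    have h' := congrArg (fun y : E => (y : F)) h
    simp only [ν, SubmonoidClass.coe_pow] at h'
    rw [← pow_mul, ← Units.val_pow_eq_pow_val, ← Units.val_pow_eq_pow_val] at h'
    have h2 := pow_eq_pow_iff_modEq.1 (Units.ext h')
    rw [orderOf_g hF g hg] at h2
    have hpr : 2 ≤ p ^ r :=
      (Fact.out : p.Prime).two_le.trans (le_self_pow₀ (Fact.out : p.Prime).one_lt.le (by omega))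
    have hlt : p ^ r < q := hq ▸ Nat.pow_lt_pow_right (Fact.out : p.Prime).one_lt (by omega)
    have := Nat.le_of_dvd ?_ ((Nat.modEq_iff_dvd' (Nat.le_mul_of_pos_right _ (by omega))).1 h2.symm)
    · rw [← Nat.mul_sub_one, ← one_pow 2, Nat.sq_sub_sq, one_pow, Nat.mul_le_mul_left_iff (by omega)] at this
      omega
    · rw [← Nat.mul_sub_one]
      exact Nat.mul_pos (by omega) (by omega)
  have hxE : (⟨x, hx⟩ : E) ∈ AddSubgroup.closure {y : E | ∃ i < f, y = ν ^ i} := by
    refine closure_span (p := p) (Submodule.span_mono ?_ (B.mem_span ⟨x, hx⟩))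
    rintro _ ⟨i, rfl⟩
    exact ⟨i, hr ▸ i.2, hB i⟩
  have := AddSubgroup.mem_map_of_mem E.subtype.toAddMonoidHom hxE
  rw [AddMonoidHom.map_closure] at this
  refine AddSubgroup.closure_mono ?_ this
  rintro _ ⟨_, ⟨i, hi, rfl⟩, rfl⟩
  exact ⟨i, hi, by simp [ν, pow_mul]⟩

/-- Powers of `k` equal to one. -/
theorem dvd_of_k_pow {n : ℕ} (h : kU q g ^ n = 1) : q ^ 2 - 1 ∣ 3 * n := by
  have h1 : g ^ ((q - 2) * n) = 1 := by
    rw [pow_mul]
    have e : g ^ q = g ^ (q - 2) * g ^ 2 := by rw [← pow_add, Nat.sub_add_cancel (by omega)]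
    rwa [kU, e, div_mul_cancel_right, inv_pow, inv_eq_one] at h
  rw [← orderOf_dvd_iff_pow_eq_one, orderOf_g hF g hg] at h1
  have h3 : Nat.gcd (q ^ 2 - 1) (q - 2) ∣ 3 := by
    have e : q ^ 2 - 1 = 3 + (q + 2) * (q - 2) := by
      obtain ⟨m, rfl⟩ : ∃ m, q = m + 2 := ⟨q - 2, by omega⟩
      simp only [Nat.add_sub_cancel]
      rw [show (m + 2) ^ 2 = 3 + (m + 2 + 2) * m + 1 by ring, Nat.add_sub_cancel]
    have := Nat.gcd_dvd_left (q ^ 2 - 1) (q - 2)
    nth_rw 2 [e] at this
    exact (Nat.dvd_add_left (dvd_mul_of_dvd_right (Nat.gcd_dvd_right _ _) _)).1 this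
  have : q ^ 2 - 1 ∣ Nat.gcd (q ^ 2 - 1) (q - 2) * n := by
    rw [← Nat.gcd_mul_right]
    exact Nat.dvd_gcd (dvd_mul_right _ _) h1
  exact this.trans (Nat.mul_dvd_mul_right h3 n)

/-- `k` lies in no proper subfield. -/
theorem k_gen (r : ℕ) (hr0 : 0 < r) (hr : r ≤ f) : (kU q g : F) ^ p ^ r ≠ (kU q g : F) := by
  intro h
  have hpr : 2 ≤ p ^ r := le_self_pow₀ (by have := (Fact.out : p.Prime).two_le; omega) (by omega) |>.trans'
    (Fact.out : p.Prime).two_le
  have hle : p ^ r ≤ q := hq ▸ Nat.pow_le_pow_right (Fact.out : p.Prime).pos hr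
  have h' : kU q g ^ p ^ r = kU q g := Units.ext (by rw [Units.val_pow_eq_pow_val]; exact h)
  have h1 : kU q g ^ (p ^ r - 1) = 1 := by
    rwa [← mul_eq_right (b := kU q g), ← pow_succ, Nat.sub_add_cancel (by omega)]
  have := Nat.le_of_dvd (by omega) (dvd_of_k_pow hF hq g hg h4 h1)
  have h5 : 4 * (q - 1) ≤ q ^ 2 - 1 := by
    rw [← one_pow 2, Nat.sq_sub_sq, one_pow]; exact Nat.mul_le_mul_right _ (by omega)
  omega

/-- `F` is spanned by three translates of the field of `k^(q-1)`. -/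
theorem closure_three : AddSubgroup.closure
    {x : F | ∃ s < 3, ∃ i : ℕ, x = (kU q g : F) ^ (s + (q - 1) * i)} = ⊤ := by
  let _ : Algebra (ZMod p) F := ZMod.algebra F p
  set k1 : F := (kU q g : F) ^ (q - 1) with hk1
  let M := IntermediateField.adjoin (ZMod p) ({k1} : Set F)
  have hk1M : k1 ∈ M := IntermediateField.subset_adjoin _ _ rfl
  have hMmem : ∀ c : M, (c : F) ∈ AddSubgroup.closure (Set.range fun i : ℕ => k1 ^ i) := fun c => by
    have hint : IsIntegral (ZMod p) k1 := IsIntegral.of_finite (ZMod p) k1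
    have h : (c : F) ∈ M.toSubalgebra := c.2
    rw [IntermediateField.adjoin_simple_toSubalgebra_of_isAlgebraic hint.isAlgebraic, ← Subalgebra.mem_toSubmodule,
      Algebra.adjoin_eq_span] at h
    refine closure_span (p := p) ?_
    refine Submodule.span_mono (fun y hy => ?_) h
    obtain ⟨n, rfl⟩ := Submonoid.mem_closure_singleton.1 hy
    exact ⟨n, rfl⟩
  have hfr : Module.finrank M F ≤ 3 := by
    have hc : Nat.card F = Nat.card M ^ Module.finrank M F := Module.natCard_eq_pow_finrank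
    rw [Nat.card_eq_fintype_card (α := F), hF] at hc
    set m := Nat.card M with hm
    have hm2 : 2 ≤ m := Finite.one_lt_card
    by_contra hcon
    have h44 : (m ^ 2) ^ 2 ≤ q ^ 2 := by
      rw [hc, ← pow_mul]; exact Nat.pow_le_pow_right (by omega) (by omega)
    have hmq : m ^ 2 ≤ q := (Nat.pow_le_pow_iff_left (by norm_num)).1 h44
    have hne : (⟨k1, hk1M⟩ : M) ≠ 0 := fun h => by
      have := congrArg (fun y : M => (y : F)) h
      exact pow_ne_zero _ (Units.ne_zero _) this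
    have := Fintype.ofFinite M
    have h1 := congrArg (fun y : M => (y : F)) (FiniteField.pow_card_sub_one_eq_one (⟨k1, hk1M⟩ : M) hne)
    simp only [SubmonoidClass.coe_pow, OneMemClass.coe_one, ← Nat.card_eq_fintype_card, ← hm] at h1
    rw [hk1, ← pow_mul, ← Units.val_pow_eq_pow_val, Units.val_eq_one] at h1
    have h2 := dvd_of_k_pow hF hq g hg h4 h1
    rw [show 3 * ((q - 1) * (m - 1)) = (q - 1) * (3 * (m - 1)) by ring, ← one_pow 2, Nat.sq_sub_sq,
      one_pow, mul_comm (q + 1)] at h2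
    have := Nat.le_of_dvd (by omega) (Nat.dvd_of_mul_dvd_mul_left (by omega) h2)
    obtain ⟨j, hj⟩ : ∃ j, m = j + 2 := ⟨m - 2, by omega⟩
    rw [hj] at this hmq
    simp only [show j + 2 - 1 = j + 1 by omega] at this
    nlinarith
  set S := {x : F | ∃ s < 3, ∃ i : ℕ, x = (kU q g : F) ^ (s + (q - 1) * i)}
  have hpow : ∀ n : ℕ, (kU q g : F) ^ n ∈ AddSubgroup.closure S := fun n => by
    have hint : IsIntegral M (kU q g : F) := IsIntegral.of_finite M _
    have h := hint.mem_span_pow (y := (kU q g : F) ^ n) ⟨Polynomial.X ^ n, by simp⟩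
    rw [Submodule.mem_span_range_iff_exists_fun] at h
    obtain ⟨c, hc⟩ := h
    rw [← hc]
    refine sum_mem fun i _ => ?_
    have hi : (i : ℕ) < 3 := lt_of_lt_of_le (lt_of_lt_of_le i.2 (minpoly.natDegree_le _)) hfr
    have := AddSubgroup.mem_map_of_mem (AddMonoidHom.mulRight ((kU q g : F) ^ (i : ℕ))) (hMmem (c i))
    rw [AddMonoidHom.map_closure] at this
    refine AddSubgroup.closure_mono ?_ (show c i • (kU q g : F) ^ (i : ℕ) ∈ _ from this)
    rintro _ ⟨_, ⟨l, rfl⟩, rfl⟩
    exact ⟨i, hi, l, by show k1 ^ l * _ = _; rw [pow_add, pow_mul, hk1]; exact mul_comm _ _⟩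
  refine eq_top_iff.2 ?_
  rw [← closure_pow_eq_top hF hq (k_gen hF hq g hg h4), AddSubgroup.closure_le]
  rintro _ ⟨i, -, rfl⟩
  exact hpow i

/-- The powers of `k` contain the cubes. -/
theorem cube_mem : g ^ 3 ∈ Subgroup.zpowers (kU q g) ∧ (¬ 3 ∣ q + 1 → g ∈ Subgroup.zpowers (kU q g)) := by
  have hc : g ^ Nat.gcd (q - 2) (q ^ 2 - 1) ∈ Subgroup.zpowers (kU q g) := by
    refine ⟨-Nat.gcdA (q - 2) (q ^ 2 - 1), ?_⟩
    have e : kU q g = (g ^ (q - 2))⁻¹ := by
      rw [kU, show g ^ q = g ^ (q - 2) * g ^ 2 by rw [← pow_add, Nat.sub_add_cancel (by omega)],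
        div_mul_cancel_right]
    show kU q g ^ _ = _
    rw [e, zpow_neg, inv_zpow, inv_inv, ← zpow_natCast, ← zpow_mul,
      ← zpow_natCast g (Nat.gcd _ _), Nat.gcd_eq_gcd_ab, zpow_add, zpow_mul g ((q ^ 2 - 1 : ℕ) : ℤ),
      zpow_natCast g (q ^ 2 - 1), ← orderOf_g hF g hg, pow_orderOf_eq_one, one_zpow, mul_one]
  have h3 : Nat.gcd (q - 2) (q ^ 2 - 1) ∣ 3 := by
    have e : q ^ 2 - 1 = 3 + (q + 2) * (q - 2) := by
      obtain ⟨m, rfl⟩ : ∃ m, q = m + 2 := ⟨q - 2, by omega⟩
      simp only [Nat.add_sub_cancel]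
      rw [show (m + 2) ^ 2 = 3 + (m + 2 + 2) * m + 1 by ring, Nat.add_sub_cancel]
    have := Nat.gcd_dvd_right (q - 2) (q ^ 2 - 1)
    nth_rw 2 [e] at this
    exact (Nat.dvd_add_left (dvd_mul_of_dvd_right (Nat.gcd_dvd_left _ _) _)).1 this
  refine ⟨?_, fun h => ?_⟩
  · obtain ⟨c, hc3⟩ := h3
    rw [hc3, pow_mul]
    exact pow_mem hc c
  · rcases (Nat.dvd_prime Nat.prime_three).1 h3 with e | e
    · rwa [e, pow_one] at hc
    · have := Nat.gcd_dvd_left (q - 2) (q ^ 2 - 1)
      rw [e] at this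
      exact absurd (show 3 ∣ q + 1 by rw [show q + 1 = q - 2 + 3 by omega]; exact Nat.dvd_add this dvd_rfl) h

/-- Coset representatives for the powers of `k`. -/
theorem exists_coset (x : F) (hx : x ≠ 0) :
    ∃ r < 3, ∃ i : ℕ, x = (g : F) ^ r * (kU q g : F) ^ i := by
  obtain ⟨m, hm⟩ := mem_powers_iff_mem_zpowers.2 (hg (Units.mk0 x hx))
  obtain ⟨i, hi⟩ := mem_powers_iff_mem_zpowers.2 (pow_mem (cube_mem hF hq g hg h4).1 (m / 3))
  refine ⟨m % 3, Nat.mod_lt _ (by norm_num), i, ?_⟩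
  have hi' : kU q g ^ i = (g ^ 3) ^ (m / 3) := hi
  rw [← Units.val_pow_eq_pow_val, ← Units.val_pow_eq_pow_val, ← Units.val_mul, hi', ← pow_mul, ← pow_add,
    Nat.mod_add_div]
  simpa using congrArg Units.val hm.symm

/-- The successor of `g^(q+1)` is one of its powers. -/
theorem exists_succ (hq4 : 4 ≤ q) : ∃ j : ℕ, 1 + (g : F) ^ (q + 1) = (g : F) ^ ((q + 1) * j) := by
  set E := fixField hF
  have hνE : (g : F) ^ (q + 1) ∈ E := by
    rw [mem_fixField, ← pow_mul, ← Units.val_pow_eq_pow_val, ← Units.val_pow_eq_pow_val]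
    congr 1
    refine pow_eq_pow_iff_modEq.2 ?_
    rw [orderOf_g hF g hg]
    refine (Nat.modEq_iff_dvd' ?_).2 ⟨1, ?_⟩ |>.symm
    · exact Nat.le_mul_of_pos_right _ (by omega)
    · rw [← Nat.mul_sub_one, mul_one, ← one_pow 2, Nat.sq_sub_sq, one_pow]
  set x := 1 + (g : F) ^ (q + 1) with hx
  have hxE : x ∈ E := add_mem (one_mem E) hνE
  have hx0 : x ≠ 0 := by
    intro h0
    have h2 : g ^ ((q + 1) * 2) = 1 := Units.ext (by
      rw [Units.val_pow_eq_pow_val, pow_mul, eq_neg_of_add_eq_zero_right h0, Units.val_one, neg_one_sq])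
    rw [← orderOf_dvd_iff_pow_eq_one, orderOf_g hF g hg, ← one_pow 2, Nat.sq_sub_sq, one_pow] at h2
    have := Nat.le_of_dvd (by norm_num) (Nat.dvd_of_mul_dvd_mul_left (by omega) h2)
    omega
  obtain ⟨l, hl⟩ := mem_powers_iff_mem_zpowers.2 (hg (Units.mk0 x hx0))
  have hl' : (g : F) ^ l = x := by simpa using congrArg Units.val hl
  have h : g ^ (l * (q - 1)) = 1 := Units.ext (by
    rw [Units.val_pow_eq_pow_val, Units.val_one, pow_mul, hl']
    refine mul_right_cancel₀ hx0 ?_
    rw [one_mul, ← pow_succ, Nat.sub_add_cancel (by omega)]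
    exact (mem_fixField hF).1 hxE)
  rw [← orderOf_dvd_iff_pow_eq_one, orderOf_g hF g hg, ← one_pow 2, Nat.sq_sub_sq, one_pow] at h
  obtain ⟨j, rfl⟩ := Nat.dvd_of_mul_dvd_mul_right (by omega) h
  exact ⟨j, hl'.symm⟩

/-- The elements of norm one are powers of `g^(q-1)`. -/
theorem exists_normOne {x : F} (hx : x ^ (q + 1) = 1) : ∃ n : ℕ, 1 ≤ n ∧ x = ((g : F) ^ (q - 1)) ^ n := by
  have hx0 : x ≠ 0 := fun h => by simp [h] at hx
  obtain ⟨l, hl⟩ := mem_powers_iff_mem_zpowers.2 (hg (Units.mk0 x hx0))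
  have hl' : (g : F) ^ l = x := by simpa using congrArg Units.val hl
  have h : g ^ (l * (q + 1)) = 1 := Units.ext (by
    rw [Units.val_pow_eq_pow_val, Units.val_one, pow_mul, hl', hx])
  rw [← orderOf_dvd_iff_pow_eq_one, orderOf_g hF g hg, ← one_pow 2, Nat.sq_sub_sq, one_pow,
    mul_comm (q + 1)] at h
  obtain ⟨j, rfl⟩ := Nat.dvd_of_mul_dvd_mul_right (by omega) h
  refine ⟨j + (q + 1), by omega, ?_⟩
  rw [pow_add, ← pow_mul, hl', ← pow_mul, ← Units.val_pow_eq_pow_val g]
  have : g ^ ((q - 1) * (q + 1)) = 1 := by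
    rw [← orderOf_dvd_iff_pow_eq_one, orderOf_g hF g hg, ← one_pow 2, Nat.sq_sub_sq, one_pow, mul_comm]
  rw [this]
  simp

omit h4 in
theorem fixed_gcd {x : F} {a b : ℕ} (ha : x ^ p ^ a = x) (hb : x ^ p ^ b = x) : x ^ p ^ Nat.gcd a b = x := by
  have h : ∀ n, x ^ p ^ n = x ↔ Function.IsPeriodicPt (frobenius F p) n x := fun n => by
    rw [Function.IsPeriodicPt, Function.IsFixedPt, iterate_frobenius]
  rw [h] at ha hb ⊢
  exact ha.gcd hb

open scoped _root_.Classical in
/-- An element of `<k>` of no proper subfield with successor in `<k>`, away from `q = 8`. -/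
theorem exists_pair (hq4 : 4 ≤ q) (h5 : q ≠ 5) (h8 : q ≠ 8) : ∃ ia ib : ℕ,
    1 + (kU q g : F) ^ ia = (kU q g : F) ^ ib ∧
      ∀ r, 0 < r → r ≤ f → ((kU q g : F) ^ ia) ^ p ^ r ≠ (kU q g : F) ^ ia := by
  obtain ⟨hcube, hfull⟩ := cube_mem hF hq g hg h4
  set k : F := ((kU q g : Fˣ) : F) with hk
  have hk0 : k ≠ 0 := Units.ne_zero _
  have hgen := k_gen hF hq g hg h4
  have hf0 : 0 < f := Nat.pos_of_ne_zero fun h => by rw [h, pow_zero] at hq; omega
  by_cases h3 : 3 ∣ q + 1
  swap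
  · have hne : 1 + k ≠ 0 := by
      intro h0
      have e : k = -1 := eq_neg_of_add_eq_zero_right h0
      refine hgen f hf0 le_rfl ?_
      show k ^ p ^ f = k
      rw [← hq, e, ← HermStd.qHom_apply hF, map_neg, map_one]
    obtain ⟨ib, hib⟩ := mem_powers_iff_mem_zpowers.2
      (Subgroup.zpowers_le.2 (hfull h3) (hg (Units.mk0 _ hne)))
    refine ⟨1, ib, ?_, fun r hr0 hr => by rw [pow_one]; exact hgen r hr0 hr⟩
    rw [pow_one]
    exact (congrArg Units.val hib).symm.trans (Units.val_pow_eq_pow_val _ _)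
  have h7 : 7 ≤ q := by
    rcases Nat.lt_or_ge q 7 with h | h
    · interval_cases q <;> first | omega | (norm_num at h3)
    · exact h
  let K : Finset F := Finset.univ.filter fun y => ∃ i : ℕ, y = k ^ i
  let E : Finset F := Finset.univ.filter fun y => y ^ q = y ∧ y ≠ 0
  have hEcard : E.card + 1 = q := by
    have e1 : E = (Finset.univ.filter fun y : F => y ^ q = y).erase 0 := by
      ext y; simp [E, and_comm]
    rw [e1, Finset.card_erase_add_one (by simp [q_ne_zero hF]), ← Fintype.card_subtype,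
      ← Nat.card_eq_fintype_card]
    exact natCard_fixField hF
  have hgN := orderOf_g hF g hg
  have hEK : ∀ y ∈ E, y ∈ K := by
    intro y hy
    simp only [E, Finset.mem_filter, Finset.mem_univ, true_and] at hy
    obtain ⟨l, hl⟩ := mem_powers_iff_mem_zpowers.2 (hg (Units.mk0 y hy.2))
    have hl' : (g : F) ^ l = y := by simpa using congrArg Units.val hl
    have h : g ^ (l * (q - 1)) = 1 := Units.ext (by
      rw [Units.val_pow_eq_pow_val, Units.val_one, pow_mul, hl']
      refine mul_right_cancel₀ hy.2 ?_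
      rw [one_mul, ← pow_succ, Nat.sub_add_cancel (by omega)]
      exact hy.1)
    rw [← orderOf_dvd_iff_pow_eq_one, hgN, ← one_pow 2, Nat.sq_sub_sq, one_pow] at h
    obtain ⟨j, hj⟩ := h3.trans (Nat.dvd_of_mul_dvd_mul_right (by omega) h)
    obtain ⟨i, hi⟩ := mem_powers_iff_mem_zpowers.2 (pow_mem hcube j)
    refine Finset.mem_filter.2 ⟨Finset.mem_univ _, i, ?_⟩
    have hi' : kU q g ^ i = (g ^ 3) ^ j := hi
    rw [hk, ← Units.val_pow_eq_pow_val, hi', ← pow_mul, ← hj, Units.val_pow_eq_pow_val, hl']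
  have hKmul : ∀ a ∈ K, ∀ b ∈ K, a * b ∈ K := by
    intro a ha b hb
    simp only [K, Finset.mem_filter, Finset.mem_univ, true_and] at ha hb ⊢
    obtain ⟨i, rfl⟩ := ha
    obtain ⟨l, rfl⟩ := hb
    exact ⟨i + l, (pow_add _ _ _).symm⟩
  have hKcard : q ^ 2 - 1 ≤ 3 * K.card := by
    have hpos : 0 < orderOf (g ^ 3) := orderOf_pos _
    have h1 : orderOf g ∣ 3 * orderOf (g ^ 3) :=
      orderOf_dvd_of_pow_eq_one (by rw [pow_mul, pow_orderOf_eq_one])
    rw [hgN] at h1
    refine (Nat.le_of_dvd (by omega) h1).trans (Nat.mul_le_mul_left 3 ?_)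
    rw [← Finset.card_range (orderOf (g ^ 3))]
    refine Finset.card_le_card_of_injOn (fun j => ((g ^ 3) ^ j : Fˣ).val) (fun j _ => ?_) ?_
    · obtain ⟨i, hi⟩ := mem_powers_iff_mem_zpowers.2 (pow_mem hcube j)
      exact Finset.mem_filter.2 ⟨Finset.mem_univ _, i, by
        rw [hk, ← Units.val_pow_eq_pow_val]; exact congrArg Units.val hi.symm⟩
    · intro a ha b hb e
      exact pow_injOn_Iio_orderOf (Finset.mem_range.1 ha) (Finset.mem_range.1 hb) (Units.ext e)
  -- coordinates over the fixed field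
  have hkE : k ∉ fixField hF := fun h => hgen f hf0 le_rfl (by rw [← hq]; exact (mem_fixField hF).1 h)
  have hdecomp : ∀ y : F, ∃ a b : fixField hF, (a : F) + b * k = y := by
    have hinj : Function.Injective fun ab : fixField hF × fixField hF => (ab.1 : F) + ab.2 * k := by
      rintro ⟨a, b⟩ ⟨a', b'⟩ e
      simp only at e
      have hb : b = b' := by
        by_contra hne
        refine hkE ?_
        have : k = (((a' - a) / (b - b') : fixField hF) : F) := by
          have : (b : F) - b' ≠ 0 := sub_ne_zero.2 fun h => hne (Subtype.ext h)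
          push_cast
          rw [eq_div_iff this]
          linear_combination e
        rw [this]
        exact SetLike.coe_mem _
      subst hb
      exact Prod.ext (Subtype.ext (add_right_cancel e)) rfl
    intro y
    obtain ⟨⟨a, b⟩, hab⟩ := (hinj.bijective_of_nat_card_le (by
      rw [Nat.card_prod, natCard_fixField hF, Nat.card_eq_fintype_card, hF, sq])).2 y
    exact ⟨a, b, hab⟩
  let S : Finset F := E.filter fun s => 1 + s * k ∈ K
  have hScover : K ⊆ Finset.image₂ (· * ·) E ((S.image fun s => 1 + s * k) ∪ {1, k}) := by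
    intro y hy
    obtain ⟨a, b, rfl⟩ := hdecomp y
    have hEmem : ∀ c : fixField hF, (c : F) ≠ 0 → (c : F) ∈ E := fun c hc =>
      Finset.mem_filter.2 ⟨Finset.mem_univ _, (mem_fixField hF).1 c.2, hc⟩
    by_cases ha : (a : F) = 0
    · have hb : (b : F) ≠ 0 := fun hb => by
        simp only [ha, hb, zero_mul, add_zero, K, Finset.mem_filter, Finset.mem_univ, true_and] at hy
        obtain ⟨i, hi⟩ := hy
        exact pow_ne_zero i hk0 hi.symm
      refine Finset.mem_image₂.2 ⟨b, hEmem b hb, k, by simp, by simp [ha]⟩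
    by_cases hb : (b : F) = 0
    · exact Finset.mem_image₂.2 ⟨a, hEmem a ha, 1, by simp, by simp [hb]⟩
    have hs : ((b / a : fixField hF) : F) ∈ E := hEmem _ (by push_cast; exact div_ne_zero hb ha)
    refine Finset.mem_image₂.2 ⟨a, hEmem a ha, 1 + ((b / a : fixField hF) : F) * k, ?_, ?_⟩
    · refine Finset.mem_union_left _ (Finset.mem_image_of_mem _ (Finset.mem_filter.2 ⟨hs, ?_⟩))
      have := hKmul _ hy _ (hEK _ (hEmem a⁻¹ (by push_cast; exact inv_ne_zero ha)))
      convert this using 1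
      push_cast
      field_simp
    · push_cast
      field_simp
  have hS : q + 1 ≤ 3 * S.card + 6 := by
    have h1 := (Finset.card_le_card hScover).trans (Finset.card_image₂_le _ _ _)
    have h2 : ((S.image fun s => 1 + s * k) ∪ {1, k}).card ≤ S.card + 2 :=
      (Finset.card_union_le _ _).trans (add_le_add Finset.card_image_le Finset.card_le_two)
    have h3' := hKcard.trans (Nat.mul_le_mul_left 3 (h1.trans (Nat.mul_le_mul_left _ h2)))
    rw [show q ^ 2 - 1 = (q + 1) * (q - 1) by rw [← Nat.sq_sub_sq, one_pow],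
      show E.card = q - 1 by omega, mul_comm (q + 1),
      ← mul_assoc, mul_comm 3 (q - 1), mul_assoc] at h3'
    have := Nat.le_of_mul_le_mul_left h3' (by omega)
    omega
  -- the bad values
  let J : Finset ℕ := Finset.Icc 1 (f / 3)
  let B : ℕ → Finset F := fun j =>
    S.filter fun s => Nat.gcd (2 * j) f = j ∧ (s * k) ^ p ^ (2 * j) = s * k
  have hBcard : ∀ j ∈ J, (B j).card ≤ p ^ j := by
    intro j hj
    rcases (B j).eq_empty_or_nonempty with he | ⟨s0, hs0⟩
    · simp [he]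
    have hjpos : j ≠ 0 := by simp [J] at hj; omega
    obtain ⟨hs0S, hgcd, hs0e⟩ := Finset.mem_filter.1 hs0
    obtain ⟨-, hs0q, hs00⟩ := Finset.mem_filter.1 (Finset.mem_filter.1 hs0S).1
    let P : Polynomial F := Polynomial.X ^ p ^ j - Polynomial.X
    have hP1 : 1 < p ^ j := Nat.one_lt_pow hjpos (Fact.out : p.Prime).one_lt
    have hP : P ≠ 0 := FiniteField.X_pow_card_sub_X_ne_zero F hP1
    have hdeg : P.natDegree = p ^ j := FiniteField.X_pow_card_sub_X_natDegree_eq F hP1
    calc (B j).card = ((B j).image fun s => s / s0).card :=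
          (Finset.card_image_of_injective _ fun a b h => by simpa [div_left_inj' hs00] using h).symm
      _ ≤ P.roots.toFinset.card := by
          refine Finset.card_le_card fun y hy => ?_
          obtain ⟨s, hs, rfl⟩ := Finset.mem_image.1 hy
          obtain ⟨hsS, -, hse⟩ := Finset.mem_filter.1 hs
          obtain ⟨-, hsq, -⟩ := Finset.mem_filter.1 (Finset.mem_filter.1 hsS).1
          have h1 : (s / s0) ^ p ^ (2 * j) = s / s0 := by
            rw [show s / s0 = s * k / (s0 * k) by rw [mul_div_mul_right _ _ hk0], div_pow, hse, hs0e]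
          have h2 : (s / s0) ^ p ^ f = s / s0 := by rw [← hq, div_pow, hsq, hs0q]
          have := fixed_gcd hF hq g hg h1 h2
          rw [hgcd] at this
          rw [Multiset.mem_toFinset, Polynomial.mem_roots hP]
          simp [P, Polynomial.IsRoot, this]
      _ ≤ Multiset.card P.roots := Multiset.toFinset_card_le _
      _ ≤ P.natDegree := Polynomial.card_roots' P
      _ = p ^ j := hdeg
  have hbad : (J.biUnion B).card < S.card := by
    refine lt_of_le_of_lt (Finset.card_biUnion_le.trans (Finset.sum_le_sum hBcard)) ?_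
    have hp2 := (Fact.out : p.Prime).two_le
    by_cases hf3 : f / 3 = 0
    · rw [show J = ∅ from Finset.Icc_eq_empty (by omega), Finset.sum_empty]; omega
    by_cases hf4 : f = 3
    · subst hf4
      simp only [J, show 3 / 3 = 1 from rfl, Finset.Icc_self, Finset.sum_singleton, pow_one]
      have hp3 : 3 ≤ p := by
        rcases eq_or_lt_of_le hp2 with h | h
        · exact absurd (by rw [hq, ← h]; norm_num) h8
        · omega
      have : 9 * p ≤ p ^ 3 := (Nat.mul_le_mul_right p (Nat.mul_le_mul hp3 hp3)).trans_eq (by ring)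
      omega
    have h1 : ∑ j ∈ J, p ^ j < p ^ (f / 3 + 1) :=
      Nat.geomSum_lt hp2 fun j hj => by simp [J] at hj; omega
    have h2 : p ^ (f / 3 + 1) ≤ p ^ (f - 2) := Nat.pow_le_pow_right (by omega) (by omega)
    have h3' : p ^ f = p ^ (f - 2) * p ^ 2 := by rw [← pow_add]; congr 1; omega
    have h4' : 4 * p ^ (f - 2) ≤ p ^ f := by
      rw [h3', mul_comm 4]; exact Nat.mul_le_mul_left _ (Nat.pow_le_pow_left hp2 2)
    have h5' : 4 ≤ p ^ (f - 2) := le_trans (by norm_num)
      ((Nat.pow_le_pow_left hp2 2).trans (Nat.pow_le_pow_right (by omega) (by omega)))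
    omega
  obtain ⟨s, hsS, hsB⟩ : ∃ s ∈ S, s ∉ J.biUnion B := Finset.not_subset.1 fun h =>
    (Finset.card_le_card h).not_gt hbad
  obtain ⟨hsE, hsK⟩ := Finset.mem_filter.1 hsS
  obtain ⟨-, hsq, hs0⟩ := Finset.mem_filter.1 hsE
  obtain ⟨-, i0, hi0⟩ := Finset.mem_filter.1 (hEK s hsE)
  obtain ⟨-, ib, hib⟩ := Finset.mem_filter.1 hsK
  have e : k ^ (i0 + 1) = s * k := by rw [pow_succ, ← hi0]
  refine ⟨i0 + 1, ib, by rw [e]; exact hib, fun r hr0 hr h => hsB ?_⟩
  rw [e] at h
  have hfull' : (s * k) ^ p ^ (2 * f) = s * k := by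
    rw [mul_comm 2 f, pow_mul p, ← hq, ← hF, FiniteField.pow_card]
  have hd := fixed_gcd hF hq g hg h hfull'
  set d := Nat.gcd r (2 * f)
  have hdr : d ≤ r := Nat.gcd_le_left _ hr0
  have hd0 : 0 < d := Nat.gcd_pos_of_pos_left _ hr0
  have hdf : ¬ d ∣ f := by
    rintro ⟨c, hc⟩
    refine hkE ((mem_fixField hF).2 ?_)
    have h1 : (s * k) ^ q = s * k := by
      rw [hq, hc]
      have : Function.IsPeriodicPt (frobenius F p) d (s * k) := by
        rw [Function.IsPeriodicPt, Function.IsFixedPt, iterate_frobenius]; exact hd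
      have h2 := this.mul_const c
      rwa [Function.IsPeriodicPt, Function.IsFixedPt, iterate_frobenius] at h2
    rw [mul_pow, hsq] at h1
    exact mul_left_cancel₀ hs0 h1
  set j := Nat.gcd d f
  have hjd : j ∣ d := Nat.gcd_dvd_left _ _
  have hd2 : d ∣ 2 * j := by
    rw [← Nat.gcd_mul_left]
    exact Nat.dvd_gcd (dvd_mul_left d 2) (Nat.gcd_dvd_right _ _)
  have hj0 : 0 < j := Nat.gcd_pos_of_pos_left _ hd0
  have hdj : d = 2 * j := by
    obtain ⟨a, ha⟩ := hjd
    rw [ha, mul_comm 2 j] at hd2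
    have := (Nat.dvd_prime Nat.prime_two).1 (Nat.dvd_of_mul_dvd_mul_left hj0 hd2)
    rcases this with rfl | rfl
    · exact absurd (by rw [ha, mul_one]; exact Nat.gcd_dvd_right _ _) hdf
    · rw [ha, mul_comm]
  have hgcd : Nat.gcd (2 * j) f = j := by rw [← hdj]
  obtain ⟨m, hm⟩ : j ∣ f := Nat.gcd_dvd_right _ _
  have hm3 : 3 ≤ m := by
    rcases m with _ | _ | _ | m
    · omega
    · simp only [Nat.zero_add, mul_one] at hm; omega
    · exact absurd ⟨1, by rw [hdj, hm]; ring⟩ hdf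
    · omega
  refine Finset.mem_biUnion.2 ⟨j, Finset.mem_Icc.2 ⟨hj0, ?_⟩, Finset.mem_filter.2 ⟨hsS, hgcd, hdj ▸ hd⟩⟩
  rw [Nat.le_div_iff_mul_le (by norm_num), hm]
  exact Nat.mul_le_mul_left j hm3

/-- The nonzero fixed elements are powers of `g^(q+1)`. -/
theorem fixed_pow {x : F} (hx : x ^ q = x) (hx0 : x ≠ 0) : ∃ i : ℕ, x = ((g : F) ^ (q + 1)) ^ i := by
  obtain ⟨l, hl⟩ := mem_powers_iff_mem_zpowers.2 (hg (Units.mk0 x hx0))
  have hl' : (g : F) ^ l = x := by simpa using congrArg Units.val hl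
  have h : g ^ (l * (q - 1)) = 1 := Units.ext (by
    rw [Units.val_pow_eq_pow_val, Units.val_one, pow_mul, hl']
    refine mul_right_cancel₀ hx0 ?_
    rw [one_mul, ← pow_succ, Nat.sub_add_cancel (by omega)]
    exact hx)
  rw [← orderOf_dvd_iff_pow_eq_one, orderOf_g hF g hg, ← one_pow 2, Nat.sq_sub_sq, one_pow] at h
  obtain ⟨j, rfl⟩ := Nat.dvd_of_mul_dvd_mul_right (by omega) h
  exact ⟨j, by rw [← pow_mul, hl']⟩

end Cfsg.Agent.ShortPres.SU3
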