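import Cfsg.Agent.SimpleFacts.MinIndexPSUThree.Group
import Cfsg.Agent.Lib.ShortPres.SU3.Abstract
import Cfsg.Agent.Lib.ShortPres.SU3.Field

/-!
# `SU₃(q)` in a frame: the torus, the reflection and the spans used by the short presentation
-/

set_option autoImplicit false
set_option linter.unusedSectionVars false
set_option linter.unusedSimpArgs false

namespace Cfsg.Agent.ShortPres.SU3.Model

open Matrix Cfsg.Agent.Classical Cfsg.Agent.Classical.Unitary Cfsg.Agent.Forms
open Cfsg.Agent.SimpleFacts.MinIndexPSUThree.Borel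
open Cfsg.Agent.SimpleFacts.MinIndexPSUThree.Plane (fixLine mem_fixLine)
open Cfsg.Agent.SimpleFacts.MinIndexPSUThree.Group

universe u

variable {F : Type u} [Field F] [Fintype F] {q : ℕ} (hF : Fintype.card F = q ^ 2) (B : Frame F q)

local notation "Vec" => (Fin 3 → F)
local notation "H" => Cfsg.hermForm 3 F q
local notation "SU3" => Cfsg.SU 3 F q

include hF

theorem pow_q_neg (x : F) : (-x) ^ q = -(x ^ q) := by
  rw [← HermStd.qHom_apply hF, map_neg, HermStd.qHom_apply]

/-- An element of the special group with given images of the frame. -/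
theorem exists_of_images (v : Fin 3 → Vec) (C : Matrix (Fin 3) (Fin 3) F)
    (hv : ∀ j, v j = C 0 j • B.e + C 1 j • B.w + C 2 j • B.f) (hC : C.det = 1)
    (g00 : H (v 0) (v 0) = 0) (g22 : H (v 2) (v 2) = 0) (g02 : H (v 0) (v 2) = 1)
    (g10 : H (v 1) (v 0) = 0) (g12 : H (v 1) (v 2) = 0) (g11 : H (v 1) (v 1) = 1) :
    ∃ k : SU3, mat k *ᵥ B.e = v 0 ∧ mat k *ᵥ B.w = v 1 ∧ mat k *ᵥ B.f = v 2 := by
  have g20 : H (v 2) (v 0) = 1 := by rw [← H_conj hF, g02, one_pow]
  have g01 : H (v 0) (v 1) = 0 := (H_eq_zero_comm hF).1 g10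
  have g21 : H (v 2) (v 1) = 0 := (H_eq_zero_comm hF).1 g12
  set M : Matrix (Fin 3) (Fin 3) F := Matrix.of fun i j =>
    (H (Pi.single j 1) B.f • v 0 + H (Pi.single j 1) B.e • v 2 + H (Pi.single j 1) B.w • v 1) i with hM
  have hsum : ∀ (x z : Vec), ∑ j, x j * H (Pi.single j 1) z = H x z := by
    intro x z
    simp_rw [← H_smul_left]
    rw [← H_sum_left, ← pi_eq_sum_univ' x]
  have hMx : ∀ x, M *ᵥ x = H x B.f • v 0 + H x B.e • v 2 + H x B.w • v 1 := by
    intro x
    funext i
    simp only [hM, Matrix.mulVec, dotProduct, Matrix.of_apply, Pi.add_apply, Pi.smul_apply, smul_eq_mul]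
    rw [← hsum x B.f, ← hsum x B.e, ← hsum x B.w, Finset.sum_mul, Finset.sum_mul, Finset.sum_mul,
      ← Finset.sum_add_distrib, ← Finset.sum_add_distrib]
    exact Finset.sum_congr rfl fun j _ => by ring
  have he : M *ᵥ B.e = v 0 := by rw [hMx, B.he, B.hef, hew hF B]; simp
  have hw : M *ᵥ B.w = v 1 := by rw [hMx, B.hwe, B.hwf, B.hww]; simp
  have hf : M *ᵥ B.f = v 2 := by rw [hMx, B.hf, hfe hF B, hfw hF B]; simp
  set T : Matrix (Fin 3) (Fin 3) F := Matrix.of fun i j => (![B.e, B.w, B.f] j) i with hT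
  have hcol : M * T = T * C := by
    ext i j
    have e1 := congrFun he i
    have e2 := congrFun hw i
    have e3 := congrFun hf i
    have e0 := congrFun (hv j) i
    simp only [Matrix.mulVec, dotProduct, Fin.sum_univ_three, Pi.add_apply, Pi.smul_apply,
      smul_eq_mul] at e1 e2 e3 e0
    fin_cases j <;> simp [hT, Matrix.mul_apply, Fin.sum_univ_three, e1, e2, e3] <;>
      simp at e0 <;> rw [e0] <;> ring
  have hTdet : T.det ≠ 0 := by
    intro h0
    obtain ⟨x, hx0, hx⟩ := Matrix.exists_mulVec_eq_zero_iff.2 h0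
    have hlin : x 0 • B.e + x 1 • B.w + x 2 • B.f = 0 := by
      funext i
      have := congrFun hx i
      simp [hT, Matrix.mulVec, dotProduct, Fin.sum_univ_three] at this
      simp only [Pi.add_apply, Pi.smul_apply, smul_eq_mul, Pi.zero_apply]
      linear_combination this
    have c0 := congrArg (fun v => H v B.f) hlin
    have c1 := congrArg (fun v => H v B.w) hlin
    have c2 := congrArg (fun v => H v B.e) hlin
    simp [H_add_left, H_smul_left, H_zero_left, B.he, B.hf, B.hef, hfe hF B, B.hwe, B.hwf, B.hww,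
      hew hF B, hfw hF B] at c0 c1 c2
    exact hx0 (funext fun i => by fin_cases i <;> assumption)
  have hd : M.det = 1 := by
    have h1 := congrArg Matrix.det hcol
    rw [Matrix.det_mul, Matrix.det_mul, hC, mul_one] at h1
    exact mul_right_cancel₀ hTdet (h1.trans (one_mul _).symm)
  refine ⟨suMk M hd fun x y => ?_, he, hw, hf⟩
  rw [hMx, hMx]
  conv_rhs => rw [decomp hF B x, decomp hF B y]
  simp only [H_add_left, H_add_right hF, H_smul_left, H_smul_right, B.he, B.hf, B.hef, hfe hF B,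
    B.hwe, B.hwf, B.hww, hew hF B, hfw hF B, g00, g01, g02, g10, g11, g12, g20, g21, g22]

/-- The reflection. -/
theorem exists_weyl : ∃ W : SU3, mat W *ᵥ B.e = B.f ∧ mat W *ᵥ B.w = -B.w ∧ mat W *ᵥ B.f = B.e :=
  exists_of_images hF B ![B.f, -B.w, B.e] !![0, 0, 1; 0, -1, 0; 1, 0, 0]
    (fun j => by fin_cases j <;> simp) (by simp [Matrix.det_fin_three]) B.hf B.he (hfe hF B)
    (by simp [H_neg_left, B.hwf]) (by simp [H_neg_left, B.hwe])
    (by simp [H_neg_left, H_neg_right hF, B.hww])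

/-- The torus generator. -/
theorem exists_torus (g : Fˣ) : ∃ T : SU3, mat T *ᵥ B.e = (g : F) • B.e ∧
    mat T *ᵥ B.w = ((g : F) ^ q / g) • B.w ∧ mat T *ᵥ B.f = ((g : F) ^ q)⁻¹ • B.f := by
  have hg0 : (g : F) ≠ 0 := g.ne_zero
  have hq0 : (g : F) ^ q ≠ 0 := pow_ne_zero _ hg0
  refine exists_of_images hF B
    ![(g : F) • B.e, ((g : F) ^ q / g) • B.w, ((g : F) ^ q)⁻¹ • B.f]
    !![(g : F), 0, 0; 0, (g : F) ^ q / g, 0; 0, 0, ((g : F) ^ q)⁻¹]
    (fun j => by fin_cases j <;> simp) ?_ ?_ ?_ ?_ ?_ ?_ ?_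
  · simp [Matrix.det_fin_three]; field_simp
  · simp [H_smul_left, H_smul_right, B.he]
  · simp [H_smul_left, H_smul_right, B.hf]
  · simp [H_smul_left, H_smul_right, B.hef, inv_pow, pow_qq hF, hg0]
  · simp [H_smul_left, H_smul_right, B.hwe]
  · simp [H_smul_left, H_smul_right, B.hwf]
  · simp [H_smul_left, H_smul_right, B.hww, div_pow, pow_qq hF]

theorem eq_one_iff_tau {y : SU3} (hy : mat y *ᵥ B.e = B.e) : tau B y = 0 ↔ y = 1 := by
  constructor
  · intro h
    have h1 := tau_add_conj hF B hy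
    rw [h, zero_pow (q_ne_zero hF), add_zero, eq_comm, neg_eq_zero] at h1
    exact unip_ext hF B hy (by rw [mat_one, Matrix.one_mulVec])
      (by rw [eq_zero_of_pow_eq_zero h1, phi_one hF B]) (by rw [h, tau_one hF B])
  · rintro rfl; exact tau_one hF B

theorem tau_inv {y : SU3} (hy : mat y *ᵥ B.e = B.e) :
    phi B y⁻¹ = - phi B y ∧ tau B y⁻¹ = tau B y ^ q := by
  have hy' : mat y⁻¹ *ᵥ B.e = B.e := inv_mulVec _ hy
  have h1 := phi_mul hF B hy hy'
  have h2 := tau_mul hF B hy hy'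
  rw [mul_inv_cancel, phi_one hF B] at h1
  rw [mul_inv_cancel, tau_one hF B] at h2
  have h3 : phi B y⁻¹ = -phi B y := by linear_combination -h1
  refine ⟨h3, ?_⟩
  rw [h3, pow_q_neg hF] at h2
  have h4 := tau_add_conj hF B hy
  rw [pow_succ] at h4
  linear_combination -h2 - h4

theorem card_Ue : Nat.card (Ue F q B.e) = q ^ 3 ∧
    Function.Surjective (coef B) ∧
    ∀ φ τ : F, τ + τ ^ q = -(φ ^ (q + 1)) → ∃ u ∈ Ue F q B.e, phi B u = φ ∧ tau B u = τ := by
  classical
  let Pr := {x : F × F // x.2 + x.2 ^ q = -(x.1 ^ (q + 1))}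
  have hPr : Nat.card Pr = q ^ 3 := by
    have hex : ∀ φ : F, ∃ b : F, b + b ^ q = -(φ ^ (q + 1)) := fun φ => exists_trace_eq hF (by
      rw [pow_q_neg hF, ← pow_mul, mul_comm, pow_mul, pow_succ, pow_qq hF, mul_comm, ← pow_succ])
    choose b hb using hex
    let e : Pr ≃ F × {c : F // c + c ^ q = 0} :=
      { toFun := fun x => (x.1.1, ⟨x.1.2 - b x.1.1, by
          rw [← HermStd.qHom_apply hF, map_sub, HermStd.qHom_apply, HermStd.qHom_apply]
          linear_combination x.2 - hb x.1.1⟩)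
        invFun := fun x => ⟨(x.1, x.2.1 + b x.1), by
          rw [HermStd.add_pow_q hF]; linear_combination x.2.2 + hb x.1⟩
        left_inv := fun x => Subtype.ext (Prod.ext rfl (sub_add_cancel _ _))
        right_inv := fun x => Prod.ext rfl (Subtype.ext (add_sub_cancel_right _ _)) }
    rw [Nat.card_congr e, Nat.card_prod, card_traceZero hF, Nat.card_eq_fintype_card, hF]
    ring
  let c : Ue F q B.e → Pr := fun u =>
    ⟨(phi B (u : SU3), tau B (u : SU3)), tau_add_conj hF B u.2⟩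
  have hc : Function.Injective c := fun u v h => Subtype.ext (unip_ext hF B u.2 v.2
    (congrArg (fun x : Pr => x.1.1) h) (congrArg (fun x : Pr => x.1.2) h))
  have hle : Nat.card (Ue F q B.e) ≤ q ^ 3 := hPr ▸ Nat.card_le_card_of_injective c hc
  have hker : (coef B).ker = (Ue F q B.e).subgroupOf (fixLine F q B.e) := by
    ext k
    rw [MonoidHom.mem_ker, ker_coef B k, Subgroup.mem_subgroupOf]
  have hkc : Nat.card (coef B).ker = Nat.card (Ue F q B.e) := by
    rw [hker]
    exact Nat.card_congr (Subgroup.subgroupOfEquivOfLe (Ue_le_fixLine _)).toEquiv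
  have h := (coef B).ker.card_mul_index
  rw [Subgroup.index_ker, hkc, card_fixLine hF B] at h
  have hr : Nat.card (coef B).range ≤ q ^ 2 - 1 := by
    have := Subgroup.card_le_card_group (coef B).range
    rwa [Nat.card_units, Nat.card_eq_fintype_card (α := F), hF] at this
  have hq := HermStd.one_lt_q hF
  have hq2 : 0 < q ^ 2 - 1 := Nat.sub_pos_of_lt (Nat.one_lt_pow (by norm_num) hq)
  have hU : Nat.card (Ue F q B.e) = q ^ 3 := by
    refine le_antisymm hle (Nat.le_of_mul_le_mul_right ?_ hq2)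
    rw [← h]
    exact Nat.mul_le_mul_left _ hr
  refine ⟨hU, ?_, ?_⟩
  · rw [hU] at h
    rw [← MonoidHom.range_eq_top]
    refine Subgroup.eq_top_of_card_eq _ ?_
    rw [Nat.eq_of_mul_eq_mul_left (by positivity) h, Nat.card_units, Nat.card_eq_fintype_card, hF]
  · intro φ τ hτ
    obtain ⟨u, hu⟩ := (hc.bijective_of_nat_card_le (by rw [hPr, hU])).2 ⟨(φ, τ), hτ⟩
    exact ⟨u, u.2, congrArg (fun x : Pr => x.1.1) hu, congrArg (fun x : Pr => x.1.2) hu⟩

end Cfsg.Agent.ShortPres.SU3.Model
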