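import Cfsg.Agent.Lib.ShortPres.SU3.Main
import Cfsg.Agent.Lib.ShortPres.Tracked

/-!
# Presentations of `SU₃(q)` and `PSU₃(q)` on three generators with at most 23 and 24 relators
-/

set_option autoImplicit false
set_option linter.unusedSectionVars false

namespace Cfsg.Agent.ShortPres.SU3

open Cfsg.Agent.Classical Cfsg.Agent.Classical.Unitary Cfsg.Agent.Forms
open Cfsg.Agent.SimpleFacts.MinIndexPSUThree.Borel
open Cfsg.Agent.SimpleFacts.MinIndexPSUThree.Group

universe u

theorem nonempty_equiv {α G : Type*} [Group G] (φ : FreeGroup α →* G) (hφ : Function.Surjective φ)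
    (L : Set (FreeGroup α)) (h1 : ∀ r ∈ L, φ r = 1)
    (h2 : ∀ r, φ r = 1 → r ∈ Subgroup.normalClosure L) : Nonempty (PresentedGroup L ≃* G) := by
  have e : φ.ker = Subgroup.normalClosure L :=
    le_antisymm (fun r hr => h2 r hr) (Subgroup.normalClosure_le_normal fun r hr => h1 r hr)
  exact ⟨(QuotientGroup.quotientMulEquivOfEq e.symm).trans (QuotientGroup.quotientKerEquivOfSurjective φ hφ)⟩

theorem mem_normalizer_of {P : Type*} [Group P] {N : Subgroup P} {a : P} (h : Stab N a)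
    (h' : Stab N a⁻¹) : a ∈ Subgroup.normalizer (N : Set P) :=
  Subgroup.mem_normalizer_iff.2 fun x => ⟨h x, fun hx => by
    have := h' _ hx
    simpa [mul_assoc] using this⟩

variable {F : Type u} [Field F] [Fintype F] {q : ℕ} (hF : Fintype.card F = q ^ 2)

include hF

theorem exists_rels (h3 : 3 ≤ q) (R : Rig F q) :
    ∃ (u0 : Cfsg.SU 3 F q) (L : Finset (FreeGroup (Fin 3))), L.card ≤ 21 ∧
      Function.Surjective (phi0 R u0) ∧ (∀ r ∈ L, phi0 R u0 r = 1) ∧
      ∀ r, phi0 R u0 r = 1 → r ∈ Subgroup.normalClosure (↑L : Set (FreeGroup (Fin 3))) := by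
  classical
  have hq1 := HermStd.one_lt_q hF
  have h4 : 3 ≤ q := h3
  obtain ⟨p, hpc⟩ := CharP.exists F
  obtain ⟨n, hp, hcard⟩ := FiniteField.card F p
  haveI : Fact p.Prime := ⟨hp⟩
  obtain ⟨f, -, hq⟩ : ∃ f ≤ (n : ℕ), q = p ^ f :=
    (Nat.dvd_prime_pow hp).1 (by rw [← hcard, hF]; exact dvd_pow_self q (by norm_num))
  obtain ⟨u0, hu0, hu0', -⟩ := exists_seed hF hq h4 R 1
  have hu1 : phi R.B u0 ≠ 0 := by rw [hu0']; exact one_ne_zero
  refine ⟨u0, ?_⟩
  have hsurj := phi0_surjective hF hq h4 R u0 hu0 hu1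
  have hf0 : f ≠ 0 := fun h => by rw [h, pow_zero] at hq; omega
  obtain ⟨j, hj⟩ : ∃ j : ℕ, f = 1 ∨ 1 + (R.g : F) ^ (q + 1) = (R.g : F) ^ ((q + 1) * j) := by
    by_cases h : 4 ≤ q
    · exact (exists_succ hF hq R.g R.hg h4 h).imp fun _ => Or.inr
    · refine ⟨0, Or.inl ?_⟩
      have h1 : 3 = p ^ f := by omega
      exact ((Nat.prime_three.pow_eq_iff (a := p) (k := f)).1 h1.symm).2
  set φ := phi0 R u0 with hφ
  have hfc : ∀ ia i, φ (fc ia i) ∈ φ '' (SN f : Set (FreeGroup (Fin 3))) := by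
    intro ia i
    rw [← Subgroup.coe_map, map_SN hF hq h4 R u0 hu0 hu1]
    have := comm_mem hF R hu0 (T_conj hF R hu0 (ia * i)).1
    simpa [fc, hφ, phi0_u, phi0_t, ← pow_mul] using this
  by_cases hsmall : q = 3 ∨ q = 5 ∨ q = 8
  · have hf3 : f ≤ 3 := by
      by_contra h
      have h16 : 2 ^ 4 ≤ p ^ f :=
        (Nat.pow_le_pow_left hp.two_le 4).trans (Nat.pow_le_pow_right hp.pos (by omega))
      omega
    have hgen : ∀ r, 0 < r → r ≤ f →
        ((kU q R.g : F) ^ 1) ^ p ^ r ≠ (kU q R.g : F) ^ 1 := fun r h1 h2 => by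
      rw [pow_one]; exact k_gen hF hq R.g R.hg h4 r h1 h2
    obtain ⟨X, hX⟩ := exists_seedWords hF hq h4 R u0 hu0 hu1 hgen
    let com : List (FreeGroup (Fin 3)) :=
      (List.range (2 * f - 2)).map fun i => relOf φ (SN f : Set (FreeGroup (Fin 3))) (fc 1 (i + 2))
    let L := (base φ q p f j 1 X ++ com).toFinset
    have hL1 : ∀ r ∈ L, φ r = 1 := by
      intro r hr
      simp only [L, com, List.mem_toFinset, List.mem_append, List.mem_map, base, List.mem_cons,
        List.not_mem_nil, or_false] at hr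
      rcases hr with (h | h | h | h | h | h | h | h | h | h | h | h | h | h | h | h | h) | ⟨i, -, h⟩ <;>
        (try subst h) <;> exact map_relOf _ _ _
    refine ⟨L, (List.toFinset_card_le _).trans (by simp [com, base_length]; omega), hsurj, hL1,
      sufficient hF hq h4 R u0 hu0 hu1 hj hgen hX _ (fun r hr => ?_) hL1 ?_ ?_⟩
    · exact Finset.mem_coe.2 (List.mem_toFinset.2 (List.mem_append_left _ hr))
    · refine Subgroup.mem_map_of_mem _ ?_
      have := conj_mem_orb (N := SN f) (a := ft ^ 1) (u := fu) (d := 2 * f) (i := 1) (by omega)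
      rw [pow_one, pow_one] at this
      rw [SM, pow_one]
      exact this
    · intro _ _ _ _ i hi
      rcases i with _ | _ | i
      · rw [show fc 1 0 = 1 by simp [fc]]
        rw [map_one]; exact one_mem _
      · rw [show fc 1 (0 + 1) = fz by simp [fc, fz]]
        exact Subgroup.mem_map_of_mem _ (show fz ∈ SN f from mem_orb_self (Nat.pos_of_ne_zero hf0))
      · have hmem : relOf φ (SN f : Set (FreeGroup (Fin 3))) (fc 1 (i + 2)) ∈ (↑L : Set (FreeGroup (Fin 3))) :=
          Finset.mem_coe.2 (List.mem_toFinset.2 (List.mem_append_right _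
            (List.mem_map.2 ⟨i, List.mem_range.2 (by omega), rfl⟩)))
        exact mem_of_relOf φ _ (PresentedGroup.one_of_mem hmem) (hfc 1 (i + 2))
  · obtain ⟨ia, ib, hab, hgen⟩ := exists_pair hF hq R.g R.hg h4 (by omega) (by omega) (by omega)
    obtain ⟨X, hX⟩ := exists_seedWords hF hq h4 R u0 hu0 hu1 hgen
    let r1 := relOf φ (SN f : Set (FreeGroup (Fin 3))) (fc ia 1)
    let x2 : FreeGroup (Fin 3) := ft ^ ib * fu * (ft ^ ib)⁻¹ * (fu * (ft ^ ia * fu * (ft ^ ia)⁻¹))⁻¹
    let r2 := relOf φ (SN f : Set (FreeGroup (Fin 3))) x2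
    let r3 := relOf φ (SM f ia : Set (FreeGroup (Fin 3))) (ft * fu * ft⁻¹)
    let L := (base φ q p f j ia X ++ [r1, r2, r3]).toFinset
    have hL1 : ∀ r ∈ L, φ r = 1 := by
      intro r hr
      simp only [L, r1, r2, r3, List.mem_toFinset, List.mem_append, base, List.mem_cons, List.not_mem_nil,
        or_false] at hr
      rcases hr with (h | h | h | h | h | h | h | h | h | h | h | h | h | h | h | h | h) | h | h | h <;>
        subst h <;> exact map_relOf _ _ _
    refine ⟨L, (List.toFinset_card_le _).trans (by simp [base_length]), hsurj, hL1,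
      sufficient hF hq h4 R u0 hu0 hu1 hj hgen hX _ (fun r hr => ?_) hL1 ?_ ?_⟩
    · exact Finset.mem_coe.2 (List.mem_toFinset.2 (List.mem_append_left _ hr))
    · refine mem_of_relOf φ _ (PresentedGroup.one_of_mem (Finset.mem_coe.2 (List.mem_toFinset.2
        (List.mem_append_right _ (List.mem_cons_of_mem _ (List.mem_cons_of_mem _ List.mem_cons_self)))))) ?_
      rw [← Subgroup.coe_map, map_SM hF hq h4 R u0 hu0 hu1 hgen]
      simpa [hφ, phi0_u, phi0_t] using (T_conj hF R hu0 1).1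
    · intro htN huN htord hup i hi
      set π := PresentedGroup.mk (↑L : Set (FreeGroup (Fin 3)))
      set N := (SN f).map π
      have hm1 : π (fc ia 1) ∈ N := mem_of_relOf φ π (PresentedGroup.one_of_mem
        (Finset.mem_coe.2 (List.mem_toFinset.2 (List.mem_append_right _ List.mem_cons_self)))) (hfc ia 1)
      have hm2 : π x2 ∈ N := mem_of_relOf φ π (PresentedGroup.one_of_mem
        (Finset.mem_coe.2 (List.mem_toFinset.2 (List.mem_append_right _
          (List.mem_cons_of_mem _ List.mem_cons_self))))) (by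
          rw [← Subgroup.coe_map, map_SN hF hq h4 R u0 hu0 hu1]
          simpa [x2, hφ, phi0_u, phi0_t] using succ_mem hF R hu0 hab)
      have hnt : π ft ∈ Subgroup.normalizer (N : Set _) :=
        mem_normalizer_of htN (htN.of_mem_zpowers (Nat.sub_pos_of_lt (Nat.one_lt_pow (by norm_num) hq1))
          htord (inv_mem (Subgroup.mem_zpowers _)))
      have hnu : π fu ∈ Subgroup.normalizer (N : Set _) := by
        refine mem_normalizer_of huN fun x hx => ?_
        have e : (π fu)⁻¹ = ((π fu) ^ p)⁻¹ * (π fu) ^ (p - 1) := by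
          rw [eq_inv_mul_iff_mul_eq, mul_inv_eq_iff_eq_mul, ← pow_succ, Nat.sub_add_cancel hp.pos]
        have := mul_mem (mul_mem (inv_mem hup) (huN.pow (p - 1) x hx)) hup
        rw [e]
        convert this using 1
        group
      have h := commute_orbit_mod hnu (pow_mem hnt ia) (pow_mem hnt ib)
        (((Commute.refl (π ft)).pow_left ia).pow_right ib)
        (by simpa [fc] using hm1) (by simpa [x2] using hm2) i
      simpa [fc] using h

omit hF in
theorem exists_center_gen (hF : Fintype.card F = q ^ 2) (R : Rig F q) :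
    ∃ n : ℕ, Subgroup.center (Cfsg.SU 3 F q) = Subgroup.zpowers (R.T ^ n) := by
  have hle : Subgroup.center (Cfsg.SU 3 F q) ≤ Subgroup.zpowers R.T := by
    intro c hc
    obtain ⟨a, ha⟩ := (mem_center_iff hF (by norm_num) c).1 hc
    have hac : ∀ v : Fin 3 → F, Matrix.mulVec (mat c) v = a • v := fun v => by
      rw [ha, Matrix.smul_mulVec, Matrix.one_mulVec]
    have ha0 : a ≠ 0 := fun h0 => mat_mulVec_ne_zero c (e_ne R.B) (by rw [hac, h0, zero_smul])
    obtain ⟨h, hh, x, hx, e⟩ := exists_torus_factor hF R (b := c) ⟨a, ha0, hac _⟩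
    obtain ⟨n, rfl⟩ := exists_nat hF R hh
    obtain ⟨-, h2, h3⟩ := T_pow R n
    have hz : ((R.g : F) ^ q / R.g) ^ n ≠ 0 := pow_ne_zero _ (div_ne_zero (pow_ne_zero _ R.g.ne_zero) R.g.ne_zero)
    have hy : ((R.g : F) ^ q)⁻¹ ^ n ≠ 0 := pow_ne_zero _ (inv_ne_zero (pow_ne_zero _ R.g.ne_zero))
    have hxe : x = (R.T ^ n)⁻¹ * c := by rw [e, inv_mul_cancel_left]
    have i1 : Matrix.mulVec (mat (R.T ^ n)⁻¹) R.B.f = (((R.g : F) ^ q)⁻¹ ^ n)⁻¹ • R.B.f := by
      refine inv_mulVec _ ?_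
      rw [Matrix.mulVec_smul, h3, smul_smul, inv_mul_cancel₀ hy, one_smul]
    have hτ : tau R.B x = 0 := by
      rw [tau, hxe, mul_mulVec, hac, Matrix.mulVec_smul, i1, smul_smul, H_smul_left, R.B.hf, mul_zero]
    rw [e, (Model.eq_one_iff_tau hF R.B hx).1 hτ, mul_one]
    exact pow_mem (Subgroup.mem_zpowers _) n
  haveI : IsCyclic (Subgroup.center (Cfsg.SU 3 F q)) :=
    isCyclic_of_injective (Subgroup.inclusion hle) (Subgroup.inclusion_injective hle)
  obtain ⟨c, hc⟩ := IsCyclic.exists_generator (α := Subgroup.center (Cfsg.SU 3 F q))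
  obtain ⟨n, hn⟩ := exists_nat hF R (hle c.2)
  refine ⟨n, le_antisymm (fun x hx => ?_) (Subgroup.zpowers_le.2 (hn ▸ c.2))⟩
  obtain ⟨k, hk⟩ := Subgroup.mem_zpowers_iff.1 (hc ⟨x, hx⟩)
  exact ⟨k, by rw [← hn]; exact congrArg Subtype.val hk⟩

/-- The presentations. -/
theorem presentations (h2 : q ≠ 2) (h3 : q ≠ 3) (h5 : q ≠ 5) :
    (∃ rels : Finset (FreeGroup (Fin 3)), rels.card ≤ 23 ∧
      Nonempty (PresentedGroup (↑rels : Set (FreeGroup (Fin 3))) ≃* ↥(Cfsg.SU 3 F q))) ∧
    (∃ rels : Finset (FreeGroup (Fin 3)), rels.card ≤ 24 ∧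
      Nonempty (PresentedGroup (↑rels : Set (FreeGroup (Fin 3))) ≃* Cfsg.PSU 3 F q)) := by
  classical
  obtain ⟨R⟩ := exists_rig hF
  obtain ⟨u0, L, hL, hsurj, hL1, hker⟩ := exists_rels hF (by have := HermStd.one_lt_q hF; omega) R
  refine ⟨⟨L, hL.trans (by norm_num), nonempty_equiv _ hsurj _ hL1 hker⟩, ?_⟩
  obtain ⟨n, hn⟩ := exists_center_gen hF R
  let π := QuotientGroup.mk' (Subgroup.center (Cfsg.SU 3 F q))
  refine ⟨insert (ft ^ n) L, (Finset.card_insert_le _ _).trans (by omega),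
    nonempty_equiv (π.comp (phi0 R u0)) ((QuotientGroup.mk'_surjective _).comp hsurj) _ ?_ ?_⟩
  · intro r hr
    rcases Finset.mem_insert.1 (Finset.mem_coe.1 hr) with rfl | h
    · rw [MonoidHom.comp_apply, map_pow, phi0_t]
      exact (QuotientGroup.eq_one_iff _).2 (hn ▸ Subgroup.mem_zpowers _)
    · rw [MonoidHom.comp_apply, hL1 r h, map_one]
  · intro r hr
    have hc : phi0 R u0 r ∈ Subgroup.center (Cfsg.SU 3 F q) := (QuotientGroup.eq_one_iff _).1 hr
    rw [hn] at hc
    obtain ⟨k, hk⟩ := Subgroup.mem_zpowers_iff.1 hc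
    have h1 : r * ((ft ^ n) ^ k)⁻¹ ∈ Subgroup.normalClosure (↑(insert (ft ^ n) L) : Set (FreeGroup (Fin 3))) :=
      Subgroup.normalClosure_mono (by simp) (hker _ (by
        rw [map_mul, map_inv, map_zpow, map_pow, phi0_t, hk, mul_inv_cancel]))
    have h2 : (ft ^ n) ^ k ∈ Subgroup.normalClosure (↑(insert (ft ^ n) L) : Set (FreeGroup (Fin 3))) :=
      Subgroup.zpow_mem _ (Subgroup.subset_normalClosure (by simp)) k
    simpa using mul_mem h1 h2

/-- `SU₃(q)`, `q ≥ 3`, on three generators with at most twenty-one relators. -/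
theorem presN (h3 : 3 ≤ q) : Bound.PresN (Cfsg.SU 3 F q) 3 21 := by
  obtain ⟨R⟩ := exists_rig hF
  obtain ⟨u0, L, hL, hsurj, hL1, hker⟩ := exists_rels hF h3 R
  exact Bound.PresN.of_presented L hL (nonempty_equiv _ hsurj _ hL1 hker)

end Cfsg.Agent.ShortPres.SU3
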