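import Cfsg.Agent.Lib.ShortPres.SU3.Spans

/-!
# The relations of `SU₃(q)` on three generators and the proof that they suffice
-/

set_option autoImplicit false
set_option linter.unusedSectionVars false
set_option linter.unusedSimpArgs false
set_option linter.unusedVariables false
set_option maxHeartbeats 400000

namespace Cfsg.Agent.ShortPres.SU3

open Cfsg.Agent.Classical Cfsg.Agent.Classical.Unitary
open Cfsg.Agent.SimpleFacts.MinIndexPSUThree.Borel
open Cfsg.Agent.SimpleFacts.MinIndexPSUThree.Group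

universe u

theorem stab_closure {P : Type*} [Group P] {S : Set P} {a : P}
    (h : ∀ x ∈ S, a * x * a⁻¹ ∈ Subgroup.closure S) : Stab (Subgroup.closure S) a := fun x hx => by
  have : Subgroup.closure S ≤ (Subgroup.closure S).comap (MulAut.conj a).toMonoidHom :=
    (Subgroup.closure_le _).2 fun y hy => by simpa using h y hy
  simpa using this hx

theorem injOn_of_card {P G : Type*} [Group P] [Group G] (φ : P →* G) (K : Subgroup P) [Finite K]
    (h : Nat.card K ≤ Nat.card (K.map φ)) : Set.InjOn φ K := by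
  let r : K → K.map φ := fun x => ⟨φ x, Subgroup.mem_map_of_mem φ x.2⟩
  have hs : Function.Surjective r := fun ⟨y, hy⟩ => by
    obtain ⟨x, hx, rfl⟩ := hy
    exact ⟨⟨x, hx⟩, rfl⟩
  intro a ha b hb e
  exact congrArg Subtype.val
    ((hs.bijective_of_nat_card_le h).1 (a₁ := ⟨a, ha⟩) (a₂ := ⟨b, hb⟩) (Subtype.ext e))

local notation "FG" => FreeGroup (Fin 3)

/-- The first generator. -/
abbrev fu : FG := FreeGroup.of 0

/-- The second generator. -/
abbrev ft : FG := FreeGroup.of 1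

/-- The third generator. -/
abbrev fw : FG := FreeGroup.of 2

/-- A word for a central element of the unipotent group. -/
def fz : FG := fu * (ft * fu * ft⁻¹) * fu⁻¹ * (ft * fu * ft⁻¹)⁻¹

/-- The commutator of `u` with a shift. -/
def fc (ia i : ℕ) : FG :=
  fu * ((ft ^ ia) ^ i * fu * ((ft ^ ia) ^ i)⁻¹) * fu⁻¹ * ((ft ^ ia) ^ i * fu * ((ft ^ ia) ^ i)⁻¹)⁻¹

/-- Words for the centre of the unipotent group. -/
def SN (f : ℕ) : Subgroup FG := orb ⊥ ft fz f

/-- Words for the unipotent group. -/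
def SM (f ia : ℕ) : Subgroup FG := orb (SN f) (ft ^ ia) fu (2 * f)

/-- Words of the shape `v h w x'`. -/
def cellSet (f ia : ℕ) : Set FG := {y | ∃ v ∈ SM f ia, ∃ i : ℕ, ∃ x ∈ SM f ia, y = v * ft ^ i * fw * x}

/-- The relators other than the two commutation relators. -/
noncomputable def base {G : Type*} [Group G] (φ : FG →* G) (q p f j ia : ℕ) (X : Fin 3 → FG) : List FG :=
  [relOf φ (⊥ : Subgroup FG) (ft ^ (q ^ 2 - 1)),
   relOf φ (⊥ : Subgroup FG) (fw * fw),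
   relOf φ (⊥ : Subgroup FG) (fw * ft * fw * ft ^ q),
   relOf φ (⊥ : Subgroup FG) (fz ^ p),
   relOf φ (⊥ : Subgroup FG) (fz * (ft * fz * ft⁻¹) * fz⁻¹ * (ft * fz * ft⁻¹)⁻¹),
   relOf φ (⊥ : Subgroup FG) (ft ^ j * fz * (ft ^ j)⁻¹ * (fz * (ft * fz * ft⁻¹))⁻¹),
   relOf φ (SN f : Set FG) (ft ^ f * fz * (ft ^ f)⁻¹),
   relOf φ (⊥ : Subgroup FG) (fu * fz * fu⁻¹ * fz⁻¹),
   relOf φ (⊥ : Subgroup FG) (ft ^ 1 * fu * (ft ^ 1)⁻¹ * fz * (ft ^ 1 * fu * (ft ^ 1)⁻¹)⁻¹ * fz⁻¹),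
   relOf φ (⊥ : Subgroup FG) (ft ^ 2 * fu * (ft ^ 2)⁻¹ * fz * (ft ^ 2 * fu * (ft ^ 2)⁻¹)⁻¹ * fz⁻¹),
   relOf φ (orb3 (SN f) ft fu (q - 1) : Set FG) (ft ^ 3 * fu * (ft ^ 3)⁻¹),
   relOf φ (SN f : Set FG) (fu ^ p),
   relOf φ (SM f ia : Set FG) ((ft ^ ia) ^ (2 * f) * fu * ((ft ^ ia) ^ (2 * f))⁻¹),
   relOf φ (cellSet f ia) (fw * fz * fw),
   relOf φ (cellSet f ia) (fw * X 0 * fw),
   relOf φ (cellSet f ia) (fw * X 1 * fw),
   relOf φ (cellSet f ia) (fw * X 2 * fw)]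

theorem base_length {G : Type*} [Group G] (φ : FG →* G) (q p f j ia : ℕ) (X : Fin 3 → FG) :
    (base φ q p f j ia X).length = 17 := rfl

variable {F : Type u} [Field F] [Fintype F] {p f q : ℕ} [Fact p.Prime] [CharP F p]
  (hF : Fintype.card F = q ^ 2) (hq : q = p ^ f) (h4 : 3 ≤ q) (R : Rig F q)
  (u0 : Cfsg.SU 3 F q) (hu0 : u0 ∈ Ue F q R.B.e) (hu1 : phi R.B u0 ≠ 0)

/-- The evaluation of words. -/
noncomputable def phi0 : FG →* Cfsg.SU 3 F q := FreeGroup.lift ![u0, R.T, R.W]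

theorem phi0_u : phi0 R u0 fu = u0 := by simp [phi0]

theorem phi0_t : phi0 R u0 ft = R.T := by simp [phi0]

theorem phi0_w : phi0 R u0 fw = R.W := by simp [phi0]

include hF hq h4 hu0 hu1

theorem fz_mem : phi0 R u0 fz ∈ Zg F q R.B.e ∧ tau R.B (phi0 R u0 fz) ≠ 0 := by
  obtain ⟨a, b, -⟩ := T_conj hF R hu0 1
  rw [pow_one] at a b
  have e : phi0 R u0 fz = u0 * (R.T * u0 * R.T⁻¹) * u0⁻¹ * (R.T * u0 * R.T⁻¹)⁻¹ := by
    simp only [fz, map_mul, map_inv, phi0_u, phi0_t]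
  rw [e]
  have hZ := comm_mem hF R hu0 a
  refine ⟨hZ, fun h0 => ?_⟩
  have h1 := (Model.eq_one_iff_tau hF R.B (Zg_le_Ue R.B.e hZ)).1 h0
  have hdep := phi_dep hF R.B hu0 a (mul_inv_eq_iff_eq_mul.1 (mul_inv_eq_one.1 h1))
  rw [b, pow_one, mul_pow] at hdep
  have hf0 : 0 < f := Nat.pos_of_ne_zero fun h => by rw [h, pow_zero] at hq; omega
  refine k_gen hF hq R.g R.hg h4 f hf0 le_rfl ?_
  rw [← hq]
  exact mul_left_cancel₀ (mul_ne_zero hu1 (pow_ne_zero q hu1)) (by linear_combination hdep)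

theorem map_SN : (SN f).map (phi0 R u0) = Zg F q R.B.e := by
  obtain ⟨h1, h2⟩ := fz_mem hF hq h4 R u0 hu0 hu1
  rw [SN, map_orb', Subgroup.map_bot, phi0_t]
  exact orb_Z hF hq h4 R h1 h2

theorem map_SM {ia : ℕ}
    (hgen : ∀ r, 0 < r → r ≤ f → ((kU q R.g : F) ^ ia) ^ p ^ r ≠ (kU q R.g : F) ^ ia) :
    (SM f ia).map (phi0 R u0) = Ue F q R.B.e := by
  rw [SM, map_orb', map_SN hF hq h4 R u0 hu0 hu1, map_pow, phi0_t, phi0_u]
  exact orb_U hF hq h4 R hu0 hu1 hgen

theorem map_S3 : (orb3 (SN f) ft fu (q - 1)).map (phi0 R u0) = Ue F q R.B.e := by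
  rw [map_orb3, map_SN hF hq h4 R u0 hu0 hu1, phi0_t, phi0_u]
  exact orb3_U hF hq h4 R hu0 hu1

theorem phi0_surjective : Function.Surjective (phi0 R u0) := by
  rw [← MonoidHom.range_eq_top]
  refine eq_top hF R ?_ ⟨ft, phi0_t R u0⟩ ⟨fw, phi0_w R u0⟩
  have hgen : ∀ r, 0 < r → r ≤ f → ((kU q R.g : F) ^ 1) ^ p ^ r ≠ (kU q R.g : F) ^ 1 := fun r h1 h2 => by
    rw [pow_one]; exact k_gen hF hq R.g R.hg h4 r h1 h2
  rw [← map_SM hF hq h4 R u0 hu0 hu1 hgen, MonoidHom.range_eq_map]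
  exact Subgroup.map_mono le_top

theorem exists_seedWords {ia : ℕ}
    (hgen : ∀ r, 0 < r → r ≤ f → ((kU q R.g : F) ^ ia) ^ p ^ r ≠ (kU q R.g : F) ^ ia) :
    ∃ X : Fin 3 → FG, ∀ r, X r ∈ SM f ia ∧ phi0 R u0 (X r) ∈ Ue F q R.B.e ∧
      phi R.B (phi0 R u0 (X r)) = (R.g : F) ^ (r : ℕ) ∧
      tau R.B (phi0 R u0 (X r)) = beta q R.g * ((R.g : F) ^ (r : ℕ)) ^ (q + 1) := by
  have : ∀ r : Fin 3, ∃ x : FG, x ∈ SM f ia ∧ phi0 R u0 x ∈ Ue F q R.B.e ∧
      phi R.B (phi0 R u0 x) = (R.g : F) ^ (r : ℕ) ∧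
      tau R.B (phi0 R u0 x) = beta q R.g * ((R.g : F) ^ (r : ℕ)) ^ (q + 1) := fun r => by
    obtain ⟨y, hy, h1, h2⟩ := exists_seed hF hq h4 R ((R.g : F) ^ (r : ℕ))
    rw [← map_SM hF hq h4 R u0 hu0 hu1 hgen] at hy
    obtain ⟨x, hx, rfl⟩ := hy
    exact ⟨x, hx, map_SM hF hq h4 R u0 hu0 hu1 hgen ▸ Subgroup.mem_map_of_mem _ hx, h1, h2⟩
  exact ⟨fun r => (this r).choose, fun r => (this r).choose_spec⟩

/-- The relators present `SU₃(q)`, given the commutations modulo the centre of `U`. -/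
theorem sufficient {j ia : ℕ} (hj : f = 1 ∨ 1 + (R.g : F) ^ (q + 1) = (R.g : F) ^ ((q + 1) * j))
    (hgen : ∀ r, 0 < r → r ≤ f → ((kU q R.g : F) ^ ia) ^ p ^ r ≠ (kU q R.g : F) ^ ia)
    {X : Fin 3 → FG} (hX : ∀ r, X r ∈ SM f ia ∧ phi0 R u0 (X r) ∈ Ue F q R.B.e ∧
      phi R.B (phi0 R u0 (X r)) = (R.g : F) ^ (r : ℕ) ∧
      tau R.B (phi0 R u0 (X r)) = beta q R.g * ((R.g : F) ^ (r : ℕ)) ^ (q + 1))
    (L : Set FG) (hL : ∀ r ∈ base (phi0 R u0) q p f j ia X, r ∈ L) (hL1 : ∀ r ∈ L, phi0 R u0 r = 1)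
    (htu : PresentedGroup.mk L (ft * fu * ft⁻¹) ∈ (SM f ia).map (PresentedGroup.mk L))
    (hcom : Stab ((SN f).map (PresentedGroup.mk L)) (PresentedGroup.mk L ft) →
      Stab ((SN f).map (PresentedGroup.mk L)) (PresentedGroup.mk L fu) →
      (PresentedGroup.mk L ft) ^ (q ^ 2 - 1) = 1 → (PresentedGroup.mk L fu) ^ p ∈ (SN f).map (PresentedGroup.mk L) →
      ∀ i, i < 2 * f → PresentedGroup.mk L (fc ia i) ∈ (SN f).map (PresentedGroup.mk L)) :
    ∀ r : FG, phi0 R u0 r = 1 → r ∈ Subgroup.normalClosure L := by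
  classical
  set φ := phi0 R u0 with hφ
  set π := PresentedGroup.mk L with hπ
  let σ : PresentedGroup L →* Cfsg.SU 3 F q :=
    PresentedGroup.toGroup (f := ![u0, R.T, R.W]) (fun r hr => hL1 r hr)
  have hσπ : ∀ x, σ (π x) = φ x := by
    intro x
    have : σ.comp π = φ := FreeGroup.ext_hom _ _ fun i => by
      simp [σ, π, φ, phi0, PresentedGroup.toGroup.of, ← PresentedGroup.of.eq_def]
      exact PresentedGroup.toGroup.of _
    exact DFunLike.congr_fun this x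
  have relS : ∀ {S : Set FG} {x : FG}, relOf φ S x ∈ base φ q p f j ia X → φ x ∈ φ '' S → π x ∈ π '' S :=
    fun {S x} hm hx => mem_of_relOf φ π (PresentedGroup.one_of_mem (hL _ hm)) hx
  have rel1 : ∀ {x : FG}, relOf φ (⊥ : Subgroup FG) x ∈ base φ q p f j ia X → φ x = 1 → π x = 1 := by
    intro x hm hx
    obtain ⟨y, hy, e⟩ := relS hm ⟨1, one_mem _, by rw [map_one, hx]⟩
    rw [← e, Subgroup.mem_bot.1 hy, map_one]
  -- the images in the group
  have hqpos : 0 < q ^ 2 - 1 := Nat.sub_pos_of_lt (Nat.one_lt_pow (by norm_num) (by omega))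
  have hf0 : 0 < f := Nat.pos_of_ne_zero fun h => by rw [h, pow_zero] at hq; omega
  have hp0 : 0 < p := (Fact.out : p.Prime).pos
  have φu : φ fu = u0 := phi0_u R u0
  have φt : φ ft = R.T := phi0_t R u0
  have φw : φ fw = R.W := phi0_w R u0
  obtain ⟨hzZ, hz0⟩ := fz_mem hF hq h4 R u0 hu0 hu1
  have hzU := Zg_le_Ue _ hzZ
  set u := π fu with hu
  set t := π ft with ht
  set w := π fw with hw
  set z := π fz with hz
  have σu : σ u = u0 := by rw [hu, hσπ, φu]
  have σt : σ t = R.T := by rw [ht, hσπ, φt]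
  have σw : σ w = R.W := by rw [hw, hσπ, φw]
  have htN : t ^ (q ^ 2 - 1) = 1 := by
    rw [ht, ← map_pow]
    exact rel1 (by simp [base]) (by rw [map_pow, φt, pow_N hF R])
  have hww : w * w = 1 := by
    rw [hw, ← map_mul]
    exact rel1 (by simp [base]) (by rw [map_mul, φw, W_sq hF R])
  have hwt : w * t * w * t ^ q = 1 := by
    simp only [hw, ht, ← map_pow, ← map_mul]
    exact rel1 (by simp [base]) (by simp only [map_mul, map_pow, φw, φt, WT_rel hF R])
  -- the central subgroup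
  have hzp : z ^ p = 1 := by
    rw [hz, ← map_pow]
    exact rel1 (by simp [base]) (by rw [map_pow]; exact pow_p_Z hF R hzZ)
  have hTzU : R.T * φ fz * R.T⁻¹ ∈ Zg F q R.B.e := by simpa using stab_Z hF R 1 _ hzZ
  have hzc : Commute z (t * z * t⁻¹) := by
    have h := rel1 (x := fz * (ft * fz * ft⁻¹) * fz⁻¹ * (ft * fz * ft⁻¹)⁻¹) (by simp [base]) (by
      simp only [map_mul, map_inv, φt]
      rw [commute_Z hF R hzU hTzU]; simp only [hφ]; group)
    simp only [map_mul, map_inv, ← hz, ← ht] at h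
    exact mul_inv_eq_iff_eq_mul.1 (mul_inv_eq_one.1 h)
  have hzj : f = 1 ∨ t ^ j * z * (t ^ j)⁻¹ = z * (t * z * t⁻¹) := hj.imp id fun hj => by
    have h := rel1 (x := ft ^ j * fz * (ft ^ j)⁻¹ * (fz * (ft * fz * ft⁻¹))⁻¹) (by simp [base]) (by
      simp only [map_mul, map_inv, map_pow, φt]
      rw [step_Z hF R hzZ hj]; simp only [hφ]; group)
    simp only [map_mul, map_inv, map_pow, ← hz, ← ht] at h
    exact mul_inv_eq_one.1 h
  have hzall : ∀ n, n < f → Commute z (t ^ n * z * (t ^ n)⁻¹) := fun n hn => by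
    rcases hzj with rfl | hzj
    · obtain rfl : n = 0 := by omega
      simp
    · exact commute_orbit ((Commute.refl t).pow_right j) hzc hzj n
  set N := (SN f).map π with hN
  have hNe : N = orb ⊥ t z f := by rw [hN, SN, map_orb', Subgroup.map_bot]
  have stab_bot : ∀ a : PresentedGroup L, Stab (⊥ : Subgroup (PresentedGroup L)) a := fun a x hx => by
    simp [Subgroup.mem_bot.1 hx]
  have hNlast : t ^ f * z * (t ^ f)⁻¹ ∈ N := by
    have := relS (x := ft ^ f * fz * (ft ^ f)⁻¹) (S := (SN f : Set FG)) (by simp [base]) (by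
      rw [← Subgroup.coe_map, map_SN hF hq h4 R u0 hu0 hu1]
      simpa [φt] using stab_Z hF R f _ hzZ)
    simpa [hN] using this
  have htN' : Stab N t := by
    rw [hNe] at hNlast ⊢
    exact stab_orb_self (stab_bot t) hNlast
  obtain ⟨hNfin, hNcard⟩ : Finite N ∧ Nat.card N ≤ q := by
    rw [hNe, hq]
    have := card_orb_le (N := (⊥ : Subgroup (PresentedGroup L))) (d := f) hp0 (stab_bot t) hqpos htN (stab_bot z)
      (by simpa using hzp) (fun i hi => by rw [Subgroup.mem_bot, (hzall i hi).eq]; group)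
    simpa using this
  have hσN : N.map σ = Zg F q R.B.e := by
    rw [hN, Subgroup.map_map, show σ.comp π = φ from MonoidHom.ext hσπ, map_SN hF hq h4 R u0 hu0 hu1]
  have injN : Set.InjOn σ N := injOn_of_card σ N (by rw [hσN, card_Zg hF R.B]; exact hNcard)
  have hzN : z ∈ N := by
    rw [hNe]; exact mem_orb_self hf0
  have hT1 : t ^ (q - 1) * z * (t ^ (q - 1))⁻¹ = z := by
    refine injN (htN'.pow _ _ hzN) hzN ?_
    simp only [map_mul, map_inv, map_pow, σt, hz, hσπ]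
    exact fix_Z hF hq h4 R hzZ
  -- the centraliser of `z`
  set K := (orb3 (SN f) ft fu (q - 1)).map π with hK
  have hKe : K = orb3 N t u (q - 1) := by rw [hK, map_orb3]
  have hu_s : ∀ s < 3, Commute (t ^ s * u * (t ^ s)⁻¹) z := by
    intro s hs
    have hsU : R.T ^ s * u0 * (R.T ^ s)⁻¹ ∈ Ue F q R.B.e := (T_conj hF R hu0 s).1
    have h0 : φ (ft ^ s * fu * (ft ^ s)⁻¹ * fz * (ft ^ s * fu * (ft ^ s)⁻¹)⁻¹ * fz⁻¹) = 1 := by
      simp only [map_mul, map_inv, map_pow, φt, φu]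
      rw [commute_Z hF R hsU hzZ]; simp only [hφ]; group
    have h : π (ft ^ s * fu * (ft ^ s)⁻¹ * fz * (ft ^ s * fu * (ft ^ s)⁻¹)⁻¹ * fz⁻¹) = 1 := by
      interval_cases s
      · have := rel1 (x := fu * fz * fu⁻¹ * fz⁻¹) (by simp [base]) (by simpa using h0)
        simpa using this
      · exact rel1 (by simp [base]) h0
      · exact rel1 (by simp [base]) h0
    simp only [map_mul, map_inv, map_pow, ← hz, ← ht, ← hu] at h
    exact mul_inv_eq_iff_eq_mul.1 (mul_inv_eq_one.1 h)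
  have hKC : K ≤ Subgroup.centralizer {z} := by
    rw [hKe, orb3, Subgroup.closure_le]
    rintro x (hx | ⟨s, hs, i, rfl⟩)
    · have hNC : N ≤ Subgroup.centralizer {z} := by
        rw [hNe]
        exact orb_le bot_le fun i hi => Subgroup.mem_centralizer_singleton_iff.2 (hzall i hi).eq.symm
      exact hNC hx
    · have hfix : ∀ i, (t ^ (q - 1)) ^ i * z * ((t ^ (q - 1)) ^ i)⁻¹ = z := by
        intro i
        induction i with
        | zero => simp
        | succ i ih =>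
          calc (t ^ (q - 1)) ^ (i + 1) * z * ((t ^ (q - 1)) ^ (i + 1))⁻¹
              = t ^ (q - 1) * ((t ^ (q - 1)) ^ i * z * ((t ^ (q - 1)) ^ i)⁻¹) * (t ^ (q - 1))⁻¹ := by
                rw [pow_succ']; group
            _ = z := by rw [ih, hT1]
      have := (hu_s s hs).map (MulAut.conj ((t ^ (q - 1)) ^ i)).toMonoidHom
      simp only [MulEquiv.coe_toMonoidHom, MulAut.conj_apply, hfix i] at this
      refine Subgroup.mem_centralizer_singleton_iff.2 ?_
      convert this.eq using 1 <;>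
        · rw [add_comm, pow_add, pow_mul]; group
  have hTK : Stab K t := by
    have hgenmem : ∀ s < 3, ∀ i : ℕ, t ^ (s + (q - 1) * i) * u * (t ^ (s + (q - 1) * i))⁻¹ ∈ orb3 N t u (q - 1) :=
      fun s hs i => Subgroup.subset_closure (Or.inr ⟨s, hs, i, rfl⟩)
    have h3 : t ^ 3 * u * (t ^ 3)⁻¹ ∈ orb3 N t u (q - 1) := by
      rw [← hKe]
      have := relS (x := ft ^ 3 * fu * (ft ^ 3)⁻¹) (S := (orb3 (SN f) ft fu (q - 1) : Set FG)) (by simp [base]) (by
        rw [← Subgroup.coe_map, map_S3 hF hq h4 R u0 hu0 hu1]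
        simpa [φt, φu] using (T_conj hF R hu0 3).1)
      simpa [hK] using this
    have ha1 : Stab (orb3 N t u (q - 1)) (t ^ (q - 1)) := stab_closure fun x hx => by
      rcases hx with hx | ⟨s, hs, i, rfl⟩
      · exact Subgroup.subset_closure (Or.inl (htN'.pow _ x hx))
      · show _ ∈ orb3 N t u (q - 1)
        have := hgenmem s hs (i + 1)
        convert this using 1
        rw [show s + (q - 1) * (i + 1) = (q - 1) + (s + (q - 1) * i) by ring, pow_add _ (q - 1)]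
        group
    rw [hKe]
    refine stab_closure fun x hx => ?_
    rcases hx with hx | ⟨s, hs, i, rfl⟩
    · exact Subgroup.subset_closure (Or.inl (htN' x hx))
    rcases Nat.lt_or_ge s 2 with h | h
    · show _ ∈ orb3 N t u (q - 1)
      have := hgenmem (s + 1) (by omega) i
      convert this using 1
      rw [show s + 1 + (q - 1) * i = 1 + (s + (q - 1) * i) by ring, pow_add _ 1, pow_one]
      group
    · show _ ∈ orb3 N t u (q - 1)
      have := ha1.pow i _ h3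
      convert this using 1
      · have e : t * t ^ (s + (q - 1) * i) = (t ^ (q - 1)) ^ i * t ^ 3 := by
          rw [← pow_mul, ← pow_add, ← pow_succ']
          congr 1
          omega
        calc t * (t ^ (s + (q - 1) * i) * u * (t ^ (s + (q - 1) * i))⁻¹) * t⁻¹
            = t * t ^ (s + (q - 1) * i) * u * (t * t ^ (s + (q - 1) * i))⁻¹ := by group
          _ = (t ^ (q - 1)) ^ i * t ^ 3 * u * ((t ^ (q - 1)) ^ i * t ^ 3)⁻¹ := by rw [e]
          _ = _ := by group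
  have hucent : ∀ h ∈ Subgroup.zpowers t, Commute (h * u * h⁻¹) z := fun h hh => by
    have huK : u ∈ K := by
      rw [hKe]
      exact Subgroup.subset_closure (Or.inr ⟨0, by norm_num, 0, by simp⟩)
    exact Subgroup.mem_centralizer_singleton_iff.1 (hKC (hTK.of_mem_zpowers hqpos htN hh _ huK))
  have huN : ∀ x ∈ N, Commute u x := by
    have : N ≤ Subgroup.centralizer {u} := by
      rw [hNe]
      refine orb_le bot_le fun i _ => Subgroup.mem_centralizer_singleton_iff.2 ?_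
      have := (hucent (t ^ i)⁻¹ (inv_mem (pow_mem (Subgroup.mem_zpowers t) i))).map
        (MulAut.conj (t ^ i)).toMonoidHom
      simp only [MulEquiv.coe_toMonoidHom, MulAut.conj_apply] at this
      rw [show t ^ i * ((t ^ i)⁻¹ * u * (t ^ i)⁻¹⁻¹) * (t ^ i)⁻¹ = u by group] at this
      exact this.eq.symm
    exact fun x hx => (Subgroup.mem_centralizer_singleton_iff.1 (this hx)).symm
  have huN' : Stab N u := fun x hx => by
    rw [(huN x hx).eq, mul_inv_cancel_right]; exact hx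
  -- the unipotent subgroup
  have hup : u ^ p ∈ N := by
    have := relS (x := fu ^ p) (S := (SN f : Set FG)) (by simp [base]) (by
      rw [← Subgroup.coe_map, map_SN hF hq h4 R u0 hu0 hu1]
      simpa [φu] using pow_p_mem hF R hu0)
    simpa [hN] using this
  have hcomm := hcom htN' huN' htN hup
  set a := t ^ ia with ha
  have haN : a ^ (q ^ 2 - 1) = 1 := by rw [ha, ← pow_mul, mul_comm, pow_mul, htN, one_pow]
  set M := (SM f ia).map π with hM
  have hMe : M = orb N a u (2 * f) := by rw [hM, SM, map_orb', map_pow]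
  obtain ⟨hMfin, hMcard⟩ : Finite M ∧ Nat.card M ≤ q ^ 3 := by
    rw [hMe]
    obtain ⟨h1, h2⟩ := card_orb_le (d := 2 * f) hp0 (htN'.pow ia) hqpos haN huN' hup fun i hi => by
      have := hcomm i hi
      rw [fc] at this
      simpa only [map_mul, map_inv, map_pow, ← ht, ← hu, ← ha] using this
    refine ⟨h1, h2.trans ((Nat.mul_le_mul_right _ hNcard).trans_eq ?_)⟩
    rw [mul_comm 2 f, pow_mul, ← hq]; ring
  have hσM : M.map σ = Ue F q R.B.e := by
    rw [hM, Subgroup.map_map, show σ.comp π = φ from MonoidHom.ext hσπ,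
      map_SM hF hq h4 R u0 hu0 hu1 hgen]
  have hmapSM : φ '' (SM f ia : Set FG) = (Ue F q R.B.e : Set (Cfsg.SU 3 F q)) := by
    rw [← Subgroup.coe_map, map_SM hF hq h4 R u0 hu0 hu1 hgen]
  have injM : Set.InjOn σ M :=
    injOn_of_card σ M (by rw [hσM, (Model.card_Ue hF R.B).1]; exact hMcard)
  have hmemU : ∀ m ∈ M, σ m ∈ Ue F q R.B.e := fun m hm => hσM ▸ Subgroup.mem_map_of_mem σ hm
  have haM : Stab M a := by
    rw [hMe]
    refine stab_orb_self (htN'.pow ia) ?_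
    rw [← hMe]
    have := relS (x := (ft ^ ia) ^ (2 * f) * fu * ((ft ^ ia) ^ (2 * f))⁻¹) (S := (SM f ia : Set FG))
      (by simp [base]) (by
        rw [hmapSM]
        simpa [φt, φu, ← pow_mul] using (T_conj hF R hu0 (ia * (2 * f))).1)
    simpa [hM, ha] using this
  have htM : Stab M t := by
    rw [hMe] at haM ⊢
    refine stab_orb_comm htN' ((Commute.refl t).pow_left ia) haM ?_
    rw [← hMe]
    simpa [hM] using htu
  set Tt := Subgroup.zpowers t with hTt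
  have hUT : ∀ h ∈ Tt, Stab M h := fun h hh => htM.of_mem_zpowers hqpos htN hh
  have hwT : Stab Tt w := by
    rintro x ⟨n, rfl⟩
    rw [← conj_zpow]
    refine zpow_mem ?_ n
    rw [inv_eq_of_mul_eq_one_left hww, eq_inv_of_mul_eq_one_left hwt]
    exact inv_mem (pow_mem (Subgroup.mem_zpowers _) _)
  have hσT : ∀ h ∈ Tt, σ h ∈ Subgroup.zpowers R.T := by
    rintro h ⟨n, rfl⟩
    exact ⟨n, by simp [σt]⟩
  have huM : u ∈ M := by rw [hMe]; exact mem_orb_self (by omega)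
  -- cells
  let C : Cfsg.SU 3 F q → Prop := fun y => ∀ m ∈ M, σ m = y → Cell M Tt w m
  have hseed : ∀ X' : FG, X' ∈ SM f ia → φ X' ≠ 1 → relOf φ (cellSet f ia) (fw * X' * fw) ∈ base φ q p f j ia X →
      C (φ X') := by
    intro X' hX' hne hm m hmM hmσ
    have e : m = π X' := injM hmM ⟨X', hX', rfl⟩ (by rw [hmσ, hσπ])
    have hU' : φ X' ∈ Ue F q R.B.e := by
      have : φ X' ∈ φ '' (SM f ia : Set FG) := ⟨X', hX', rfl⟩
      rwa [hmapSM] at this
    obtain ⟨v, hv, h, hh, x', hx', e1⟩ := exists_cell hF R hU' hne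
    obtain ⟨n, rfl⟩ := exists_nat hF R hh
    rw [← SetLike.mem_coe, ← hmapSM] at hv hx'
    obtain ⟨vv, hvv, rfl⟩ := hv
    obtain ⟨xx, hxx, rfl⟩ := hx'
    obtain ⟨y, ⟨v', hv', i, x'', hx'', rfl⟩, hy⟩ := relS hm ⟨vv * ft ^ n * fw * xx, ⟨vv, hvv, n, xx, hxx, rfl⟩, by
      simp only [map_mul, map_pow, φw, φt]; exact e1.symm⟩
    refine ⟨π v', ⟨v', hv', rfl⟩, t ^ i, pow_mem (Subgroup.mem_zpowers t) i, π x'', ⟨x'', hx'', rfl⟩, ?_⟩
    rw [e]
    simpa [ht, hw] using hy.symm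
  have hCconj : ∀ y ∈ Ue F q R.B.e, C y → ∀ n : ℕ, C (R.T ^ n * y * (R.T ^ n)⁻¹) := by
    intro y hy hCy n m hm hmσ
    rw [← hσM] at hy
    obtain ⟨m0, hm0, rfl⟩ := hy
    have hn : t ^ n ∈ Tt := pow_mem (Subgroup.mem_zpowers t) n
    rw [injM hm (hUT _ hn m0 hm0) (by rw [hmσ, map_mul, map_mul, map_inv, map_pow, σt])]
    exact (hCy m0 hm0 rfl).conj hUT hww hwT hn
  have hCmul : ∀ x ∈ Ue F q R.B.e, ∀ y ∈ Ue F q R.B.e, C x → C y →
      (∀ x' ∈ Ue F q R.B.e, ∀ v₂ ∈ Ue F q R.B.e,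
        (∃ v ∈ Ue F q R.B.e, ∃ h ∈ Subgroup.zpowers R.T, R.W * x * R.W = v * h * R.W * x') →
        (∃ h ∈ Subgroup.zpowers R.T, ∃ z' ∈ Ue F q R.B.e, R.W * y * R.W = v₂ * h * R.W * z') →
          C (x' * v₂)) → C (x * y) := by
    intro x hx y hy hCx hCy hnext m hm hmσ
    rw [← hσM] at hx hy
    obtain ⟨mx, hmx, rfl⟩ := hx
    obtain ⟨my, hmy, rfl⟩ := hy
    obtain ⟨v1, hv1, h1, hh1, x', hx', e1⟩ := hCx mx hmx rfl
    obtain ⟨v2, hv2, h2, hh2, y', hy', e2⟩ := hCy my hmy rfl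
    rw [injM hm (mul_mem hmx hmy) (by rw [hmσ, map_mul])]
    refine Cell.mul hUT hww hwT hv1 hh1 e1 hh2 hy' e2 ?_
    refine hnext _ (hmemU x' hx') _ (hmemU v2 hv2) ⟨σ v1, hmemU v1 hv1, σ h1, hσT h1 hh1, ?_⟩
      ⟨σ h2, hσT h2 hh2, σ y', hmemU y' hy', ?_⟩ _ (mul_mem hx' hv2) (map_mul σ _ _)
    · simpa [σw] using congrArg σ e1
    · simpa [σw] using congrArg σ e2
  have hXne : ∀ r, φ (X r) ≠ 1 := fun r h => by
    have := (hX r).2.2.1
    rw [h, phi_one hF R.B] at this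
    exact pow_ne_zero _ R.g.ne_zero this.symm
  have hzSM : fz ∈ SM f ia := le_orb (show fz ∈ SN f from mem_orb_self hf0)
  have hall := all_cells hF hq h4 R C hCconj hCmul hzZ hz0
    (hseed fz hzSM (fun h => hz0 (by rw [h, tau_one hF R.B])) (by simp [base]))
    (X := fun r => φ (X r)) (fun r => (hX r).2)
    (fun r => hseed _ (hX r).1 (hXne r) (by fin_cases r <;> simp [base]))
  have hcell : ∀ m ∈ M, m ≠ 1 → Cell M Tt w m := fun m hm hm1 =>
    hall (σ m) (hmemU m hm) (fun h => hm1 (injM hm (one_mem M) (by rw [h, map_one]))) m hm rfl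
  -- the count
  have hTfin : Finite Tt ∧ Nat.card Tt ≤ q ^ 2 - 1 := by
    have ho : IsOfFinOrder t := isOfFinOrder_iff_pow_eq_one.2 ⟨_, hqpos, htN⟩
    exact ⟨ho.finite_zpowers, (Nat.card_zpowers t).trans_le (orderOf_le_of_pow_eq_one hqpos htN)⟩
  haveI := hTfin.1
  obtain ⟨hPfin, hPcard⟩ := card_le hUT hww hwT (PresentedGroup.closure_range_of L) (by
    rintro _ ⟨i, rfl⟩
    fin_cases i
    · exact Or.inl (Or.inl huM)
    · exact Or.inl (Or.inr (Subgroup.mem_zpowers t))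
    · exact Or.inr rfl) hcell
  have hsurj : Function.Surjective σ := fun y => by
    obtain ⟨x, hx⟩ := phi0_surjective hF hq h4 R u0 hu0 hu1 y
    exact ⟨π x, (hσπ x).trans hx⟩
  have hbij : Function.Bijective σ := hsurj.bijective_of_nat_card_le (by
    rw [card_SU hF]
    refine hPcard.trans ?_
    calc Nat.card M * Nat.card Tt * (1 + Nat.card M) ≤ q ^ 3 * (q ^ 2 - 1) * (1 + q ^ 3) :=
          Nat.mul_le_mul (Nat.mul_le_mul hMcard hTfin.2) (by omega)
      _ = _ := by ring)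
  intro r hr
  refine PresentedGroup.mk_eq_one_iff.1 (hbij.1 ?_)
  rw [hσπ, hr, map_one]

end Cfsg.Agent.ShortPres.SU3
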