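import Cfsg.Agent.Lib.ShortPres.SU3.Model

/-!
# The rig of a frame, a torus generator and a reflection in `SU₃(q)`: cells and spans
-/

set_option autoImplicit false
set_option linter.unusedSectionVars false
set_option linter.unusedSimpArgs false

namespace Cfsg.Agent.ShortPres.SU3

open Matrix Cfsg.Agent.Classical Cfsg.Agent.Classical.Unitary Cfsg.Agent.Forms
open Cfsg.Agent.SimpleFacts.MinIndexPSUThree.Borel
open Cfsg.Agent.SimpleFacts.MinIndexPSUThree.Plane (fixLine mem_fixLine)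
open Cfsg.Agent.SimpleFacts.MinIndexPSUThree.Group

universe u

/-- A frame with a torus generator and the reflection exchanging `e` and `f`. -/
structure Rig (F : Type u) [Field F] [Fintype F] (q : ℕ) where
  B : Frame F q
  g : Fˣ
  T : Cfsg.SU 3 F q
  W : Cfsg.SU 3 F q
  hg : ∀ x : Fˣ, x ∈ Subgroup.zpowers g
  hTe : mat T *ᵥ B.e = (g : F) • B.e
  hTw : mat T *ᵥ B.w = ((g : F) ^ q / g) • B.w
  hTf : mat T *ᵥ B.f = ((g : F) ^ q)⁻¹ • B.f
  hWe : mat W *ᵥ B.e = B.f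
  hWw : mat W *ᵥ B.w = -B.w
  hWf : mat W *ᵥ B.f = B.e

variable {F : Type u} [Field F] [Fintype F] {q : ℕ} (hF : Fintype.card F = q ^ 2) (R : Rig F q)

local notation "Vec" => (Fin 3 → F)
local notation "H" => Cfsg.hermForm 3 F q
local notation "SU3" => Cfsg.SU 3 F q
local notation "U" => Ue F q R.B.e

include hF

theorem exists_rig : Nonempty (Rig F q) := by
  obtain ⟨B⟩ := exists_frame_default hF
  obtain ⟨g, hg⟩ := IsCyclic.exists_generator (α := Fˣ)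
  obtain ⟨T, h1, h2, h3⟩ := Model.exists_torus hF B g
  obtain ⟨W, h4, h5, h6⟩ := Model.exists_weyl hF B
  exact ⟨⟨B, g, T, W, hg, h1, h2, h3, h4, h5, h6⟩⟩

omit hF in
theorem T_pow (n : ℕ) : mat (R.T ^ n) *ᵥ R.B.e = ((R.g : F) ^ n) • R.B.e ∧
    mat (R.T ^ n) *ᵥ R.B.w = (((R.g : F) ^ q / R.g) ^ n) • R.B.w ∧
    mat (R.T ^ n) *ᵥ R.B.f = (((R.g : F) ^ q)⁻¹ ^ n) • R.B.f := by
  induction n with
  | zero => simp [mat_one]
  | succ n ih =>
    obtain ⟨h1, h2, h3⟩ := ih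
    refine ⟨?_, ?_, ?_⟩ <;>
      simp only [pow_succ', mul_mulVec, h1, h2, h3, Matrix.mulVec_smul, R.hTe, R.hTw, R.hTf, smul_smul] <;>
      rw [mul_comm]

theorem pow_N : R.T ^ (q ^ 2 - 1) = 1 := by
  obtain ⟨h1, h2, h3⟩ := T_pow R (q ^ 2 - 1)
  have hu : ∀ x : F, x ≠ 0 → x ^ (q ^ 2 - 1) = 1 := fun x hx => by
    rw [← hF]; exact FiniteField.pow_card_sub_one_eq_one x hx
  have hg0 : (R.g : F) ≠ 0 := R.g.ne_zero
  rw [hu _ hg0, one_smul] at h1
  rw [hu _ (div_ne_zero (pow_ne_zero _ hg0) hg0), one_smul] at h2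
  rw [hu _ (inv_ne_zero (pow_ne_zero _ hg0)), one_smul] at h3
  exact ext hF R.B (by rw [h1, mat_one, Matrix.one_mulVec]) (by rw [h3, mat_one, Matrix.one_mulVec])
    (by rw [h2, mat_one, Matrix.one_mulVec])

theorem W_sq : R.W * R.W = 1 :=
  ext hF R.B (by rw [mul_mulVec, R.hWe, R.hWf, mat_one, Matrix.one_mulVec])
    (by rw [mul_mulVec, R.hWf, R.hWe, mat_one, Matrix.one_mulVec])
    (by rw [mul_mulVec, R.hWw, Matrix.mulVec_neg, R.hWw, neg_neg, mat_one, Matrix.one_mulVec])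

theorem W_inv : R.W⁻¹ = R.W := inv_eq_of_mul_eq_one_left (W_sq hF R)

theorem WT_rel : R.W * R.T * R.W * R.T ^ q = 1 := by
  obtain ⟨h1, h2, h3⟩ := T_pow R q
  have hg0 : (R.g : F) ≠ 0 := R.g.ne_zero
  have hq0 : (R.g : F) ^ q ≠ 0 := pow_ne_zero _ hg0
  refine ext hF R.B ?_ ?_ ?_ <;>
    simp only [mul_mulVec, h1, h2, h3, Matrix.mulVec_smul, R.hWe, R.hWw, R.hWf, R.hTe, R.hTw, R.hTf,
      Matrix.mulVec_neg, smul_smul, smul_neg, neg_neg, mat_one, Matrix.one_mulVec]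
  · rw [mul_inv_cancel₀ hq0, one_smul]
  · rw [inv_pow, pow_qq hF, inv_mul_cancel₀ hg0, one_smul]
  · rw [div_pow, pow_qq hF, div_mul_div_cancel₀ hq0, div_self hg0, one_smul]

theorem stab_W : Stab (Subgroup.zpowers R.T) R.W := by
  intro x hx
  obtain ⟨n, rfl⟩ := hx
  rw [← conj_zpow]
  refine zpow_mem ?_ n
  rw [W_inv hF R, eq_inv_of_mul_eq_one_left (WT_rel hF R)]
  exact inv_mem (pow_mem (Subgroup.mem_zpowers _) _)

theorem exists_nat {h : SU3} (hh : h ∈ Subgroup.zpowers R.T) : ∃ n : ℕ, h = R.T ^ n := by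
  have hq := HermStd.one_lt_q hF
  have hfo : IsOfFinOrder R.T := isOfFinOrder_iff_pow_eq_one.2
    ⟨q ^ 2 - 1, Nat.sub_pos_of_lt (Nat.one_lt_pow (by norm_num) hq), pow_N hF R⟩
  obtain ⟨n, hn⟩ := hfo.mem_powers_iff_mem_zpowers.2 hh
  exact ⟨n, hn.symm⟩

/-- Torus conjugation in coordinates. -/
theorem T_conj {u : SU3} (hu : u ∈ U) (n : ℕ) : R.T ^ n * u * (R.T ^ n)⁻¹ ∈ U ∧
    phi R.B (R.T ^ n * u * (R.T ^ n)⁻¹) = (kU q R.g : F) ^ n * phi R.B u ∧
    tau R.B (R.T ^ n * u * (R.T ^ n)⁻¹) = ((R.g : F) ^ (q + 1)) ^ n * tau R.B u := by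
  obtain ⟨h1, h2, h3⟩ := T_pow R n
  obtain ⟨hm, hp⟩ := phi_conj hF R.B h1 hu
  refine ⟨hm, ?_, ?_⟩
  · rw [hp, kU, Units.val_div_eq_div_val, Units.val_pow_eq_pow_val, Units.val_pow_eq_pow_val, div_pow,
      ← pow_mul, ← pow_mul, ← pow_mul, ← pow_mul, mul_comm n 2, mul_comm n q]
  · have hc : ((R.g : F) ^ q)⁻¹ ^ n ≠ 0 := pow_ne_zero _ (inv_ne_zero (pow_ne_zero _ R.g.ne_zero))
    have key : mat (R.T ^ n * u * (R.T ^ n)⁻¹) *ᵥ (mat (R.T ^ n) *ᵥ R.B.f) =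
        mat (R.T ^ n) *ᵥ (mat u *ᵥ R.B.f) := by
      rw [← mul_mulVec, inv_mul_cancel_right, mul_mulVec]
    rw [h3, Matrix.mulVec_smul, unip_f hF R.B hu, Matrix.mulVec_add, Matrix.mulVec_sub, Matrix.mulVec_smul,
      Matrix.mulVec_smul, h1, h2, h3] at key
    have h4 := congrArg (fun x => H x R.B.f) key
    simp [H_add_left, H_sub_left, H_smul_left, R.B.hf, R.B.hef, R.B.hwf] at h4
    rw [show H (mat (R.T ^ n * u * (R.T ^ n)⁻¹) *ᵥ R.B.f) R.B.f = tau R.B (R.T ^ n * u * (R.T ^ n)⁻¹) from rfl]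
      at h4
    field_simp at h4
    rw [h4, ← pow_mul, ← pow_mul]
    ring

theorem stab_U {h : SU3} (hh : h ∈ Subgroup.zpowers R.T) : Stab U h := by
  obtain ⟨n, rfl⟩ := exists_nat hF R hh
  exact fun x hx => (T_conj hF R hx n).1

theorem exists_torus_factor {b : SU3} (hb : b ∈ fixLine F q R.B.e) :
    ∃ h ∈ Subgroup.zpowers R.T, ∃ x ∈ U, b = h * x := by
  obtain ⟨a, ha0, ha⟩ := hb
  obtain ⟨n, hn⟩ := mem_powers_iff_mem_zpowers.2 (R.hg (Units.mk0 a ha0))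
  have hn' : (R.g : F) ^ n = a := by simpa using congrArg Units.val hn
  refine ⟨R.T ^ n, pow_mem (Subgroup.mem_zpowers _) _, (R.T ^ n)⁻¹ * b, ?_, (mul_inv_cancel_left _ _).symm⟩
  show mat ((R.T ^ n)⁻¹ * b) *ᵥ R.B.e = R.B.e
  rw [mul_mulVec, ha]
  refine inv_mulVec _ ?_ |>.trans rfl
  rw [(T_pow R n).1, hn']

/-- Every element is in `B` or in `U W B`. -/
theorem bruhat (k : SU3) : k ∈ fixLine F q R.B.e ∨
    ∃ v ∈ U, ∃ b ∈ fixLine F q R.B.e, k = v * R.W * b := by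
  set x := mat k *ᵥ R.B.e with hx
  have hxx : H x x = 0 := by rw [hx, SU_H, R.B.he]
  have hd := decomp hF R.B x
  by_cases h0 : H x R.B.e = 0
  · have hw0 : H x R.B.w = 0 := by
      rw [hd] at hxx
      simp [H_add_left, H_add_right hF, H_smul_left, H_smul_right, R.B.he, R.B.hef, hfe hF R.B, R.B.hwe,
        R.B.hwf, R.B.hww, hew hF R.B, hfw hF R.B, h0, q_ne_zero hF] at hxx
      exact hxx
    rw [h0, hw0, zero_smul, zero_smul, add_zero, add_zero] at hd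
    refine Or.inl ⟨H x R.B.f, fun hz => ?_, hd⟩
    rw [hz, zero_smul] at hd
    exact mat_mulVec_ne_zero k (e_ne R.B) hd
  right
  set l := H x R.B.e
  set α := H x R.B.f / l with hα
  set β := H x R.B.w / l with hβ
  have hq0 := q_ne_zero hF
  have hxd : x = l • (α • R.B.e + R.B.f + β • R.B.w) := by
    conv_lhs => rw [hd]
    rw [smul_add, smul_add, smul_smul, smul_smul, hα, hβ, mul_div_cancel₀ _ h0, mul_div_cancel₀ _ h0]
  have hz : α + α ^ q = -((-(β ^ q)) ^ (q + 1)) := by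
    rw [hxd, H_smul_left, H_smul_right, mul_eq_zero, mul_eq_zero] at hxx
    have h1 := (hxx.resolve_left h0).resolve_left (pow_ne_zero _ h0)
    simp [H_add_left, H_add_right hF, H_smul_left, H_smul_right, R.B.he, R.B.hf, R.B.hef, hfe hF R.B,
      R.B.hwe, R.B.hwf, R.B.hww, hew hF R.B, hfw hF R.B] at h1
    rw [pow_succ, Model.pow_q_neg hF, pow_qq hF]
    linear_combination h1
  obtain ⟨v, hv, hvp, hvt⟩ := (Model.card_Ue hF R.B).2.2 (-(β ^ q)) α hz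
  refine ⟨v, hv, (v * R.W)⁻¹ * k, ⟨l, h0, ?_⟩, (mul_inv_cancel_left _ _).symm⟩
  rw [mul_mulVec, ← hx, hxd, Matrix.mulVec_smul]
  congr 1
  refine inv_mulVec _ ?_
  rw [mul_mulVec, R.hWe, unip_f hF R.B hv, hvp, hvt, Model.pow_q_neg hF, pow_qq hF]
  module

/-- The coordinates of the factors of a cell. -/
theorem formula_left {y v x' h : SU3} (hy : y ∈ U) (ht : tau R.B y ≠ 0) (hv : v ∈ U) (hx' : x' ∈ U)
    (hh : h ∈ Subgroup.zpowers R.T) (e : R.W * y * R.W = v * h * R.W * x') :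
    phi R.B v = -(phi R.B y / tau R.B y ^ q) ∧ tau R.B v = 1 / tau R.B y := by
  obtain ⟨n, rfl⟩ := exists_nat hF R hh
  have h1 := congrArg (fun k : SU3 => mat k *ᵥ R.B.e) e
  simp only [mul_mulVec, show mat x' *ᵥ R.B.e = R.B.e from hx', show mat y *ᵥ R.B.e = R.B.e from hy, R.hWe, (T_pow R n).2.2, Matrix.mulVec_smul, unip_f hF R.B hy,
    unip_f hF R.B hv, Matrix.mulVec_add, Matrix.mulVec_sub, R.hWw, R.hWf] at h1
  have he := congrArg (fun x => H x R.B.f) h1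
  have hw := congrArg (fun x => H x R.B.w) h1
  have hf := congrArg (fun x => H x R.B.e) h1
  simp [H_add_left, H_sub_left, H_neg_left, H_smul_left, R.B.he, R.B.hf, R.B.hef, hfe hF R.B,
    R.B.hwe, R.B.hwf, R.B.hww, hew hF R.B, hfw hF R.B] at he hw hf
  simp only [inv_pow] at *
  rw [← hf] at he hw
  have hvq : phi R.B v ^ q = -(phi R.B y ^ q / tau R.B y) := by
    rw [← neg_div, eq_div_iff ht]; linear_combination hw
  refine ⟨?_, ?_⟩
  · have := congrArg (· ^ q) hvq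
    simp only [pow_qq hF, Model.pow_q_neg hF, div_pow] at this
    exact this
  · rw [eq_div_iff ht, mul_comm, ← he]

theorem formula {y v x' h : SU3} (hy : y ∈ U) (ht : tau R.B y ≠ 0) (hv : v ∈ U) (hx' : x' ∈ U)
    (hh : h ∈ Subgroup.zpowers R.T) (e : R.W * y * R.W = v * h * R.W * x') :
    phi R.B v = -(phi R.B y / tau R.B y ^ q) ∧ tau R.B v = 1 / tau R.B y ∧
      phi R.B x' = -(phi R.B y / tau R.B y) ∧ tau R.B x' = 1 / tau R.B y := by
  obtain ⟨h1, h2⟩ := formula_left hF R hy ht hv hx' hh e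
  refine ⟨h1, h2, ?_⟩
  obtain ⟨i1, i2⟩ := Model.tau_inv hF R.B hy
  have e' : R.W * y⁻¹ * R.W = x'⁻¹ * (R.W * h⁻¹ * R.W⁻¹) * R.W * v⁻¹ := by
    have := congrArg (·⁻¹) e
    simp only [_root_.mul_inv_rev, W_inv hF R] at this
    rw [W_inv hF R]
    calc R.W * y⁻¹ * R.W = R.W * (y⁻¹ * R.W) := mul_assoc _ _ _
      _ = x'⁻¹ * (R.W * (h⁻¹ * v⁻¹)) := this
      _ = x'⁻¹ * (R.W * h⁻¹) * (R.W * R.W) * v⁻¹ := by rw [W_sq hF R]; group
      _ = _ := by group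
  obtain ⟨h3, h4⟩ := formula_left hF R (inv_mem hy) (by rw [i2]; exact pow_ne_zero _ ht) (inv_mem hx')
    (inv_mem hv) (stab_W hF R _ (inv_mem hh)) e'
  obtain ⟨j1, j2⟩ := Model.tau_inv hF R.B hx'
  rw [j1, i1, i2, pow_qq hF] at h3
  rw [j2, i2] at h4
  refine ⟨by linear_combination -h3, ?_⟩
  have := congrArg (· ^ q) h4
  simpa [pow_qq hF, div_pow] using this

theorem exists_cell {y : SU3} (hy : y ∈ U) (hy1 : y ≠ 1) : Cell U (Subgroup.zpowers R.T) R.W y := by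
  have ht : tau R.B y ≠ 0 := fun h => hy1 ((Model.eq_one_iff_tau hF R.B hy).1 h)
  rcases bruhat hF R (R.W * y * R.W) with hb | ⟨v, hv, b, hb, e⟩
  · obtain ⟨a, -, ha⟩ := hb
    simp only [mul_mulVec, R.hWe, unip_f hF R.B hy, Matrix.mulVec_add, Matrix.mulVec_sub,
      Matrix.mulVec_smul, R.hWw, R.hWf] at ha
    have := congrArg (fun x => H x R.B.e) ha
    simp [H_add_left, H_sub_left, H_neg_left, H_smul_left, R.B.he, R.B.hef, hfe hF R.B, R.B.hwe] at this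
    exact absurd this ht
  obtain ⟨h, hh, x, hx, rfl⟩ := exists_torus_factor hF R hb
  refine ⟨v, hv, R.W * h * R.W⁻¹, stab_W hF R h hh, x, hx, e.trans ?_⟩
  rw [show v * (R.W * h * R.W⁻¹) * R.W * x = v * R.W * h * x by group]
  group

/-- The group is generated by `U`, the torus and the reflection. -/
theorem eq_top {K : Subgroup SU3} (hU : U ≤ K) (hT : R.T ∈ K) (hW : R.W ∈ K) : K = ⊤ := by
  have hfix : fixLine F q R.B.e ≤ K := fun b hb => by
    obtain ⟨h, hh, x, hx, rfl⟩ := exists_torus_factor hF R hb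
    exact mul_mem (Subgroup.zpowers_le.2 hT hh) (hU hx)
  refine eq_top_iff.2 fun k _ => ?_
  rcases bruhat hF R k with hb | ⟨v, hv, b, hb, rfl⟩
  · exact hfix hb
  · exact mul_mem (mul_mem (hU hv) hW) (hfix hb)

end Cfsg.Agent.ShortPres.SU3
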