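import Cfsg.Agent.Lib.ShortPres.SU3.Rig

/-!
# Spans in the unipotent group and the recursion on cells
-/

set_option autoImplicit false
set_option linter.unusedSectionVars false
set_option linter.unusedSimpArgs false

namespace Cfsg.Agent.ShortPres.SU3

open Matrix Cfsg.Agent.Classical Cfsg.Agent.Classical.Unitary Cfsg.Agent.Forms
open Cfsg.Agent.SimpleFacts.MinIndexPSUThree.Borel
open Cfsg.Agent.SimpleFacts.MinIndexPSUThree.Group

universe u

/-- The subgroup generated over `N` by three translates of an `m`-periodic orbit. -/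
def orb3 {P : Type*} [Group P] (N : Subgroup P) (t x : P) (m : ℕ) : Subgroup P :=
  Subgroup.closure ((N : Set P) ∪ {y | ∃ s < 3, ∃ i : ℕ, y = t ^ (s + m * i) * x * (t ^ (s + m * i))⁻¹})

theorem map_orb3 {P Q : Type*} [Group P] [Group Q] (φ : P →* Q) (N : Subgroup P) (t x : P) (m : ℕ) :
    (orb3 N t x m).map φ = orb3 (N.map φ) (φ t) (φ x) m := by
  rw [orb3, MonoidHom.map_closure, orb3, Set.image_union, Subgroup.coe_map]
  congr 2
  ext y
  constructor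
  · rintro ⟨_, ⟨s, hs, i, rfl⟩, rfl⟩
    exact ⟨s, hs, i, by simp⟩
  · rintro ⟨s, hs, i, rfl⟩
    exact ⟨_, ⟨s, hs, i, rfl⟩, by simp⟩

variable {F : Type u} [Field F] [Fintype F] {p f q : ℕ} [Fact p.Prime] [CharP F p]
  (hF : Fintype.card F = q ^ 2) (hq : q = p ^ f) (h4 : 3 ≤ q) (R : Rig F q)

local notation "SU3" => Cfsg.SU 3 F q
local notation "U" => Ue F q R.B.e
local notation "Z" => Zg F q R.B.e

include hF

theorem mem_Z_iff {x : SU3} : x ∈ Z ↔ x ∈ U ∧ phi R.B x = 0 := mem_Zg_iff hF R.B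

theorem stab_Z (n : ℕ) : Stab Z (R.T ^ n) := fun x hx => by
  obtain ⟨h1, h2⟩ := (mem_Z_iff hF R).1 hx
  obtain ⟨a, b, -⟩ := T_conj hF R h1 n
  exact (mem_Z_iff hF R).2 ⟨a, by rw [b, h2, mul_zero]⟩

theorem commute_Z {x y : SU3} (hx : x ∈ U) (hy : y ∈ Z) : x * y = y * x := by
  obtain ⟨h1, h2⟩ := (mem_Z_iff hF R).1 hy
  refine unip_ext hF R.B (Subgroup.mul_mem _ hx h1) (Subgroup.mul_mem _ h1 hx) ?_ ?_
  · rw [phi_mul hF R.B hx h1, phi_mul hF R.B h1 hx, add_comm]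
  · rw [tau_mul hF R.B hx h1, tau_mul hF R.B h1 hx, h2, zero_pow (q_ne_zero hF)]
    ring

theorem tau_mul_Z {x y : SU3} (hx : x ∈ U) (hy : y ∈ Z) : tau R.B (x * y) = tau R.B x + tau R.B y := by
  obtain ⟨h1, h2⟩ := (mem_Z_iff hF R).1 hy
  rw [tau_mul hF R.B hx h1, h2, zero_pow (q_ne_zero hF)]
  ring

theorem mem_Z_of_phi {x y : SU3} (hx : x ∈ U) (hy : y ∈ U) (h : phi R.B x = phi R.B y) :
    x * y⁻¹ ∈ Z := by
  obtain ⟨h1, -⟩ := Model.tau_inv hF R.B hy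
  exact (mem_Z_iff hF R).2 ⟨mul_mem hx (inv_mem hy),
    by rw [phi_mul hF R.B hx (show y⁻¹ ∈ U from inv_mem hy), h1, h, add_neg_cancel]⟩

theorem comm_mem {x y : SU3} (hx : x ∈ U) (hy : y ∈ U) : x * y * x⁻¹ * y⁻¹ ∈ Z := by
  have := mem_Z_of_phi hF R (mul_mem hx hy) (mul_mem hy hx)
    (by rw [phi_mul hF R.B hx hy, phi_mul hF R.B hy hx, add_comm])
  convert this using 1
  group

theorem phi_pow {x : SU3} (hx : x ∈ U) (n : ℕ) : phi R.B (x ^ n) = n * phi R.B x := by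
  induction n with
  | zero => simp [phi_one hF R.B]
  | succ n ih => rw [pow_succ, phi_mul hF R.B (pow_mem hx n) hx, ih]; push_cast; ring

theorem pow_p_mem {x : SU3} (hx : x ∈ U) : x ^ p ∈ Z :=
  (mem_Z_iff hF R).2 ⟨pow_mem hx p, by rw [phi_pow hF R hx, CharP.cast_eq_zero, zero_mul]⟩

theorem pow_p_Z {x : SU3} (hx : x ∈ Z) : x ^ p = 1 := by
  have h : ∀ n : ℕ, tau R.B (x ^ n) = n * tau R.B x := by
    intro n
    induction n with
    | zero => simp [tau_one hF R.B]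
    | succ n ih =>
      rw [pow_succ, tau_mul_Z hF R (pow_mem (Zg_le_Ue _ hx) n) hx, ih]; push_cast; ring
  refine (Model.eq_one_iff_tau hF R.B (pow_mem (Zg_le_Ue R.B.e hx) p)).1 ?_
  rw [h, CharP.cast_eq_zero, zero_mul]

include hq h4

theorem fix_Z {x : SU3} (hx : x ∈ Z) : R.T ^ (q - 1) * x * (R.T ^ (q - 1))⁻¹ = x := by
  obtain ⟨h1, h2⟩ := (mem_Z_iff hF R).1 hx
  obtain ⟨a, b, c⟩ := T_conj hF R h1 (q - 1)
  refine unip_ext hF R.B a h1 (by rw [b, h2, mul_zero]) ?_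
  have hN : R.g ^ ((q + 1) * (q - 1)) = 1 := by
    rw [← orderOf_dvd_iff_pow_eq_one, orderOf_g hF R.g R.hg, ← Nat.sq_sub_sq, one_pow]
  rw [c, ← pow_mul, ← Units.val_pow_eq_pow_val, hN, Units.val_one, one_mul]

omit [CharP F p] [Fact p.Prime] hq h4 in
theorem step_Z {z : SU3} (hz : z ∈ Z) {j : ℕ}
    (hj : 1 + (R.g : F) ^ (q + 1) = (R.g : F) ^ ((q + 1) * j)) :
    R.T ^ j * z * (R.T ^ j)⁻¹ = z * (R.T * z * R.T⁻¹) := by
  obtain ⟨h1, h2⟩ := (mem_Z_iff hF R).1 hz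
  obtain ⟨a, b, c⟩ := T_conj hF R h1 j
  obtain ⟨a1, b1, c1⟩ := T_conj hF R h1 1
  rw [pow_one] at a1 b1 c1
  refine unip_ext hF R.B a (Subgroup.mul_mem _ h1 a1) ?_ ?_
  · rw [b, phi_mul hF R.B h1 a1, b1, h2]; ring
  · rw [c, tau_mul hF R.B h1 a1, b1, h2, c1, ← pow_mul, ← hj]
    simp [q_ne_zero hF]
    ring

theorem orb_Z {z : SU3} (hz : z ∈ Z) (hz0 : tau R.B z ≠ 0) : orb ⊥ R.T z f = Z := by
  have hle : orb ⊥ R.T z f ≤ Z := orb_le bot_le fun i _ => stab_Z hF R i z hz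
  refine le_antisymm hle fun y hy => ?_
  set O := orb ⊥ R.T z f
  let A : AddSubgroup F :=
    { carrier := {c | ∃ h ∈ O, tau R.B h = c}
      zero_mem' := ⟨1, one_mem O, tau_one hF R.B⟩
      add_mem' := by
        rintro _ _ ⟨a, ha, rfl⟩ ⟨b, hb, rfl⟩
        exact ⟨a * b, mul_mem ha hb, tau_mul_Z hF R (Zg_le_Ue _ (hle ha)) (hle hb)⟩
      neg_mem' := by
        rintro _ ⟨a, ha, rfl⟩
        refine ⟨a⁻¹, inv_mem ha, ?_⟩
        have := tau_mul_Z hF R (Zg_le_Ue _ (hle (inv_mem ha))) (hle ha)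
        rw [inv_mul_cancel, tau_one hF R.B] at this
        linear_combination -this }
  have hgen : ∀ i < f, tau R.B z * (R.g : F) ^ ((q + 1) * i) ∈ A := fun i hi =>
    ⟨_, conj_mem_orb hi, by rw [(T_conj hF R (Zg_le_Ue _ hz) i).2.2, pow_mul, mul_comm]⟩
  have hzq : tau R.B z ^ q = -tau R.B z := by linear_combination tau_traceZero hF R.B hz
  have hyq : tau R.B y ^ q = -tau R.B y := by linear_combination tau_traceZero hF R.B hy
  have hfix : (tau R.B y / tau R.B z) ^ q = tau R.B y / tau R.B z := by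
    rw [div_pow, hzq, hyq, neg_div_neg_eq]
  have := AddSubgroup.mem_map_of_mem (AddMonoidHom.mulLeft (tau R.B z))
    (fixed_mem_closure hF hq R.g R.hg h4 hfix)
  rw [AddMonoidHom.map_closure] at this
  have hA : tau R.B y ∈ A := by
    rw [show tau R.B y = tau R.B z * (tau R.B y / tau R.B z) by field_simp]
    refine (AddSubgroup.closure_le _).2 ?_ this
    rintro _ ⟨_, ⟨i, hi, rfl⟩, rfl⟩
    exact hgen i hi
  obtain ⟨h, hh, e⟩ := hA
  obtain ⟨y1, y2⟩ := (mem_Z_iff hF R).1 hy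
  obtain ⟨a1, a2⟩ := (mem_Z_iff hF R).1 (hle hh)
  rwa [← unip_ext hF R.B a1 y1 (a2.trans y2.symm) e]

omit hq h4 [CharP F p] [Fact p.Prime] in
theorem eq_U_of_phi (K : Subgroup SU3) (hle : K ≤ U) (hZ : Z ≤ K) {S : Set F}
    (hS : AddSubgroup.closure S = ⊤) {c : F} (hc : c ≠ 0) (h : ∀ s ∈ S, ∃ x ∈ K, phi R.B x = s * c) :
    K = U := by
  refine le_antisymm hle fun y hy => ?_
  let A : AddSubgroup F :=
    { carrier := {d | ∃ x ∈ K, phi R.B x = d}
      zero_mem' := ⟨1, one_mem K, phi_one hF R.B⟩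
      add_mem' := by
        rintro _ _ ⟨a, ha, rfl⟩ ⟨b, hb, rfl⟩
        exact ⟨a * b, mul_mem ha hb, phi_mul hF R.B (hle ha) (hle hb)⟩
      neg_mem' := by
        rintro _ ⟨a, ha, rfl⟩
        exact ⟨a⁻¹, inv_mem ha, (Model.tau_inv hF R.B (hle ha)).1⟩ }
  have := AddSubgroup.mem_map_of_mem (AddMonoidHom.mulRight c)
    (show phi R.B y / c ∈ AddSubgroup.closure S by rw [hS]; trivial)
  rw [AddMonoidHom.map_closure] at this
  have hA : phi R.B y ∈ A := by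
    rw [show phi R.B y = phi R.B y / c * c by field_simp]
    refine (AddSubgroup.closure_le _).2 ?_ this
    rintro _ ⟨s, hs, rfl⟩
    exact h s hs
  obtain ⟨x, hx, e⟩ := hA
  have := mul_mem (hZ (mem_Z_of_phi hF R hy (hle hx) e.symm)) hx
  simpa using this

theorem orb_U {x : SU3} (hx : x ∈ U) (hx0 : phi R.B x ≠ 0) {ia : ℕ}
    (hgen : ∀ r, 0 < r → r ≤ f → ((kU q R.g : F) ^ ia) ^ p ^ r ≠ (kU q R.g : F) ^ ia) :
    orb Z (R.T ^ ia) x (2 * f) = U := by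
  refine eq_U_of_phi hF R _ (orb_le (Zg_le_Ue _) fun i _ => ?_) le_orb (closure_pow_eq_top hF hq hgen) hx0 ?_
  · rw [← pow_mul]; exact (T_conj hF R hx _).1
  · rintro _ ⟨i, hi, rfl⟩
    exact ⟨_, conj_mem_orb hi, by rw [← pow_mul R.T, (T_conj hF R hx _).2.1, pow_mul]⟩

theorem orb3_U {x : SU3} (hx : x ∈ U) (hx0 : phi R.B x ≠ 0) : orb3 Z R.T x (q - 1) = U := by
  refine eq_U_of_phi hF R _ ((Subgroup.closure_le _).2 ?_) (fun y hy => Subgroup.subset_closure (Or.inl hy))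
    (closure_three hF hq R.g R.hg h4) hx0 ?_
  · rintro y (hy | ⟨s, -, i, rfl⟩)
    · exact Zg_le_Ue _ hy
    · exact (T_conj hF R hx _).1
  · rintro _ ⟨s, hs, i, rfl⟩
    exact ⟨_, Subgroup.subset_closure (Or.inr ⟨s, hs, i, rfl⟩), (T_conj hF R hx _).2.1⟩

omit hq h4 [CharP F p] [Fact p.Prime] in
theorem succ_mem {x : SU3} (hx : x ∈ U) {ia ib : ℕ}
    (h : 1 + (kU q R.g : F) ^ ia = (kU q R.g : F) ^ ib) :
    R.T ^ ib * x * (R.T ^ ib)⁻¹ * (x * (R.T ^ ia * x * (R.T ^ ia)⁻¹))⁻¹ ∈ Z := by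
  obtain ⟨a, b, -⟩ := T_conj hF R hx ib
  obtain ⟨a', b', -⟩ := T_conj hF R hx ia
  refine mem_Z_of_phi hF R a (mul_mem hx a') ?_
  rw [b, phi_mul hF R.B hx a', b', ← h]
  ring

/-- The seed coefficient. -/
def beta (q : ℕ) (g : Fˣ) : F := (g : F) ^ (q - 1) / (1 - (g : F) ^ (q - 1))

theorem zeta_ne : (R.g : F) ^ (q - 1) ≠ 1 ∧ ((R.g : F) ^ (q - 1)) ^ q = ((R.g : F) ^ (q - 1))⁻¹ := by
  refine ⟨fun h => ?_, ?_⟩
  · have h' : R.g ^ (q - 1) = 1 := Units.ext (by rw [Units.val_pow_eq_pow_val, h, Units.val_one])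
    rw [← orderOf_dvd_iff_pow_eq_one, orderOf_g hF R.g R.hg] at h'
    have := Nat.le_of_dvd (by omega) h'
    have h5 : 4 * (q - 1) ≤ q ^ 2 - 1 := by
      rw [← one_pow 2, Nat.sq_sub_sq, one_pow]; exact Nat.mul_le_mul_right _ (by omega)
    omega
  · refine eq_inv_of_mul_eq_one_left ?_
    rw [← pow_succ, ← pow_mul, ← Units.val_pow_eq_pow_val, Units.val_eq_one, ← orderOf_dvd_iff_pow_eq_one,
      orderOf_g hF R.g R.hg, mul_comm, ← Nat.sq_sub_sq, one_pow]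

theorem exists_seed (φ : F) :
    ∃ x ∈ U, phi R.B x = φ ∧ tau R.B x = beta q R.g * φ ^ (q + 1) := by
  refine (Model.card_Ue hF R.B).2.2 _ _ ?_
  obtain ⟨h1, h2⟩ := zeta_ne hF hq h4 R
  have hb : beta q R.g + beta q R.g ^ q = -1 := by
    have hz0 : (R.g : F) ^ (q - 1) ≠ 0 := pow_ne_zero _ R.g.ne_zero
    have h1' : 1 - (R.g : F) ^ (q - 1) ≠ 0 := sub_ne_zero.2 (Ne.symm h1)
    rw [beta, div_pow, ← HermStd.qHom_apply hF (1 - _), map_sub, map_one, HermStd.qHom_apply, h2]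
    have h1'' : (R.g : F) ^ (q - 1) - 1 ≠ 0 := sub_ne_zero.2 h1
    field_simp
    ring
  have hn : (φ ^ (q + 1)) ^ q = φ ^ (q + 1) := by
    rw [pow_succ, mul_pow, pow_qq hF, mul_comm]
  rw [mul_pow, hn, ← add_mul, hb, neg_one_mul]

/-- The recursion: cells of the seeds, closed under torus conjugation and the product rule, exhaust `U`. -/
theorem all_cells (C : SU3 → Prop)
    (hC : ∀ y ∈ U, C y → ∀ n : ℕ, C (R.T ^ n * y * (R.T ^ n)⁻¹))
    (hmul : ∀ x ∈ U, ∀ z ∈ U, C x → C z →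
      (∀ x' ∈ U, ∀ v₂ ∈ U, (∃ v ∈ U, ∃ h ∈ Subgroup.zpowers R.T, R.W * x * R.W = v * h * R.W * x') →
        (∃ h ∈ Subgroup.zpowers R.T, ∃ z' ∈ U, R.W * z * R.W = v₂ * h * R.W * z') → C (x' * v₂)) →
      C (x * z))
    {z0 : SU3} (hz0 : z0 ∈ Z) (hz0' : tau R.B z0 ≠ 0) (hCz : C z0)
    {X : Fin 3 → SU3} (hX : ∀ r, X r ∈ U ∧ phi R.B (X r) = (R.g : F) ^ (r : ℕ) ∧
      tau R.B (X r) = beta q R.g * ((R.g : F) ^ (r : ℕ)) ^ (q + 1))
    (hCX : ∀ r, C (X r)) : ∀ y ∈ U, y ≠ 1 → C y := by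
  have hq1 : q ≠ 0 := by omega
  have hτ : ∀ y ∈ U, y ≠ 1 → tau R.B y ≠ 0 := fun y hy hy1 h =>
    hy1 ((Model.eq_one_iff_tau hF R.B hy).1 h)
  have hZcase : ∀ y ∈ Z, y ≠ 1 → C y := by
    intro y hy hy1
    obtain ⟨y1, y2⟩ := (mem_Z_iff hF R).1 hy
    have hzq : tau R.B z0 ^ q = -tau R.B z0 := by linear_combination tau_traceZero hF R.B hz0
    have hyq : tau R.B y ^ q = -tau R.B y := by linear_combination tau_traceZero hF R.B hy
    obtain ⟨i, hi⟩ := fixed_pow hF hq R.g R.hg h4 (x := tau R.B y / tau R.B z0)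
      (by rw [div_pow, hzq, hyq, neg_div_neg_eq]) (div_ne_zero (hτ y y1 hy1) hz0')
    obtain ⟨z1, z2⟩ := (mem_Z_iff hF R).1 hz0
    obtain ⟨a, b, c⟩ := T_conj hF R z1 i
    have : R.T ^ i * z0 * (R.T ^ i)⁻¹ = y := unip_ext hF R.B a y1 (by rw [b, z2, mul_zero, y2])
      (by rw [c, ← hi, div_mul_cancel₀ _ hz0'])
    exact this ▸ hC z0 z1 hCz i
  have hseed : ∀ y ∈ U, phi R.B y ≠ 0 → tau R.B y = beta q R.g * phi R.B y ^ (q + 1) → C y := by
    intro y hy hy0 hyt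
    obtain ⟨r, hr, i, hi⟩ := exists_coset hF hq R.g R.hg h4 _ hy0
    obtain ⟨x1, x2, x3⟩ := hX ⟨r, hr⟩
    obtain ⟨a, b, c⟩ := T_conj hF R x1 i
    have hk : (kU q R.g : F) ^ (q + 1) = (R.g : F) ^ (q + 1) := by
      have hg0 : (R.g : F) ≠ 0 := R.g.ne_zero
      have hqg : ((R.g : F) ^ q) ^ q = R.g := pow_qq hF _
      rw [kU, Units.val_div_eq_div_val, Units.val_pow_eq_pow_val, Units.val_pow_eq_pow_val, pow_succ _ q,
        div_pow, ← pow_mul, mul_comm 2 q, pow_mul, hqg, div_mul_div_comm, div_eq_iff (mul_ne_zero hg0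
          (pow_ne_zero _ hg0))]
      ring
    have : R.T ^ i * X ⟨r, hr⟩ * (R.T ^ i)⁻¹ = y := unip_ext hF R.B a hy (by rw [b, x2, hi, mul_comm])
      (by rw [c, x3, hyt, hi, mul_pow, ← pow_mul (kU q R.g : F), mul_comm i, pow_mul _ (q + 1) i, hk]; ring)
    exact this ▸ hC _ x1 (hCX _) i
  suffices key : ∀ n, 1 ≤ n → ∀ y ∈ U, phi R.B y ≠ 0 →
      -(tau R.B y / tau R.B y ^ q) = ((R.g : F) ^ (q - 1)) ^ n → C y by
    intro y hy hy1
    by_cases hp : phi R.B y = 0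
    · exact hZcase y ((mem_Z_iff hF R).2 ⟨hy, hp⟩) hy1
    have ht := hτ y hy hy1
    obtain ⟨n, hn, e⟩ := exists_normOne hF hq R.g R.hg h4 (x := -(tau R.B y / tau R.B y ^ q)) (by
      rw [pow_succ, Model.pow_q_neg hF, div_pow, pow_qq hF]
      field_simp)
    exact key n hn y hy hp e
  obtain ⟨hζ1, hζq⟩ := zeta_ne hF hq h4 R
  set ζ := (R.g : F) ^ (q - 1)
  intro n hn
  induction n using Nat.strong_induction_on with
  | _ n ih =>
    intro x hx hx0 hxζ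
    obtain ⟨b, hb, hbp, hbt⟩ := exists_seed hF hq h4 R (phi R.B x)
    have hCb : C b := hseed b hb (hbp ▸ hx0) (by rw [hbp, hbt])
    have hb1 : b ≠ 1 := fun h => hx0 (by rw [← hbp, h, phi_one hF R.B])
    have hx1 : x ≠ 1 := fun h => hx0 (by rw [h, phi_one hF R.B])
    have htb := hτ b hb hb1
    have htx := hτ x hx hx1
    -- the invariant of the seed
    have hbζ : -(tau R.B b / tau R.B b ^ q) = ζ := by
      have h1 := tau_add_conj hF R.B hb
      rw [hbp] at h1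
      have hn0 : phi R.B x ^ (q + 1) ≠ 0 := pow_ne_zero _ hx0
      have h1' : 1 - ζ ≠ 0 := sub_ne_zero.2 (Ne.symm hζ1)
      have hz0 : ζ ≠ 0 := pow_ne_zero _ R.g.ne_zero
      have h2 : tau R.B b ^ q = -(phi R.B x ^ (q + 1) / (1 - ζ)) := by
        rw [eq_sub_of_add_eq' h1, hbt, show beta q R.g = ζ / (1 - ζ) from rfl]
        field_simp
        ring
      rw [h2, hbt, show beta q R.g = ζ / (1 - ζ) from rfl]
      field_simp

    by_cases hcase : tau R.B x = tau R.B b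
    · exact (unip_ext hF R.B hx hb hbp.symm hcase).symm ▸ hCb
    have hn2 : 2 ≤ n := by
      rcases Nat.lt_or_ge n 2 with h | h
      · exfalso
        rw [show n = 1 by omega, pow_one, ← hbζ, neg_inj] at hxζ
        apply hcase
        have h1 := tau_add_conj hF R.B hx
        have h2 := tau_add_conj hF R.B hb
        rw [hbp] at h2
        rw [div_eq_div_iff (pow_ne_zero _ htx) (pow_ne_zero _ htb)] at hxζ
        have e1 : tau R.B b ^ q = -(phi R.B x ^ (q + 1)) - tau R.B b := by linear_combination h2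
        have e2 : tau R.B x ^ q = -(phi R.B x ^ (q + 1)) - tau R.B x := by linear_combination h1
        rw [e1, e2] at hxζ
        exact mul_left_cancel₀ (pow_ne_zero (q + 1) hx0) (by linear_combination -hxζ)
      · exact h
    set z := b⁻¹ * x with hz
    have hzZ : z ∈ Z := by
      refine (mem_Z_iff hF R).2 ⟨mul_mem (inv_mem hb) hx, ?_⟩
      rw [hz, phi_mul hF R.B (show b⁻¹ ∈ U from inv_mem hb) hx, (Model.tau_inv hF R.B hb).1, hbp]
      ring
    have hzU := Zg_le_Ue _ hzZ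
    have hxbz : x = b * z := (mul_inv_cancel_left b x).symm
    have htz : tau R.B x = tau R.B b + tau R.B z := by rw [hxbz, tau_mul_Z hF R hb hzZ]
    have htz0 : tau R.B z ≠ 0 := fun h => hcase (by rw [htz, h, add_zero])
    have hzq : tau R.B z ^ q = -tau R.B z := by linear_combination tau_traceZero hF R.B hzZ
    have hz1 : z ≠ 1 := fun h => htz0 (by rw [h, tau_one hF R.B])
    have hxq : tau R.B x ^ q = tau R.B b ^ q + tau R.B z ^ q := by rw [htz, HermStd.add_pow_q hF]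
    rw [hxbz]
    refine hmul b hb z hzU hCb (hZcase z hzZ hz1) ?_
    rintro x' hx' v₂ hv₂ ⟨v, hv, h, hh, e1⟩ ⟨h', hh', z', hz', e2⟩
    obtain ⟨-, -, f1, f2⟩ := formula hF R hb htb hv hx' hh e1
    obtain ⟨f3, f4, -, -⟩ := formula hF R hzU htz0 hv₂ hz' hh' e2
    obtain ⟨-, hzp⟩ := (mem_Z_iff hF R).1 hzZ
    rw [hzp, zero_div, neg_zero] at f3
    have ep : phi R.B (x' * v₂) = -(phi R.B x / tau R.B b) := by
      rw [phi_mul hF R.B hx' hv₂, f1, f3, hbp, add_zero]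
    have et : tau R.B (x' * v₂) = tau R.B x / (tau R.B b * tau R.B z) := by
      rw [tau_mul hF R.B hx' hv₂, f2, f4, f3, zero_pow hq1, htz]
      field_simp
      ring
    refine ih (n - 1) (by omega) (by omega) _ (mul_mem hx' hv₂)
      (by rw [ep]; exact neg_ne_zero.2 (div_ne_zero hx0 htb)) ?_
    have hz0 : ζ ≠ 0 := pow_ne_zero _ R.g.ne_zero
    have : ζ ^ n = ζ ^ (n - 1) * ζ := by rw [← pow_succ, Nat.sub_add_cancel hn]
    refine mul_right_cancel₀ hz0 ?_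
    rw [← this, ← hxζ, ← hbζ, et, div_pow, mul_pow, hzq]
    field_simp

end Cfsg.Agent.ShortPres.SU3
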